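import Cfsg.Agent.Lib.Partition.SplitCase
import Cfsg.Agent.Lib.OddLocal.FittingHall
import Cfsg.Agent.S0215
import Cfsg.Agent.S0346

/-!
# Simple groups with a partition: every involution has its centraliser in its component

The normaliser of the component of an involution is strongly embedded and the component is a TI
subgroup containing the centralisers of its elements, so the group is `SL(2, 2ⁿ)` or a Suzuki group.
-/

set_option autoImplicit false

open Cfsg Subgroup

namespace CfsgLib.Partition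

universe u

variable {G : Type u} [Group G]

namespace Pn

variable [Finite G] (P : Pn G)

theorem embedded_case [IsSimpleGroup G] (hna : ¬ IsMulCommutative G) (h2 : 2 ∣ Nat.card G)
    (hI : ∀ t x : G, orderOf t = 2 → Commute t x → x ∈ P.comp t) :
    (∃ (K : Type) (_ : Field K) (_ : Fintype K), (∃ n : ℕ, 2 ≤ n ∧ Fintype.card K = 2 ^ n) ∧
        Nonempty (G ≃* Matrix.SpecialLinearGroup (Fin 2) K)) ∨
    Cfsg.Lie.IsoSuzuki G := by
  classical
  haveI : Fact (Nat.Prime 2) := ⟨Nat.prime_two⟩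
  obtain ⟨S⟩ := (inferInstance : Nonempty (Sylow 2 G))
  haveI : Group.IsNilpotent (S : Subgroup G) := S.isPGroup'.isNilpotent
  obtain ⟨zS, hzcen, hzo⟩ := exists_central_orderOf_eq (G := (S : Subgroup G)) (p := 2)
    (S.dvd_card_of_dvd_card h2)
  set z : G := zS.1 with hzdef
  have hz : orderOf z = 2 := by rw [hzdef, orderOf_coe]; exact hzo
  have hz1 : z ≠ 1 := fun h => by rw [h, orderOf_one] at hz; omega
  have hzc : ∀ s ∈ (S : Subgroup G), Commute z s := fun s hs =>
    (congrArg Subtype.val (mem_center_iff.1 hzcen ⟨s, hs⟩)).symm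
  set A := P.comp z with hA
  have hSA : (S : Subgroup G) ≤ A := fun s hs => hI z s hz (hzc s hs)
  set M := normalizer (A : Set G) with hM
  have hAM : A ≤ M := le_normalizer
  have hSM : (S : Subgroup G) ≤ M := hSA.trans hAM
  have hzM : z ∈ M := hAM (P.mem z)
  have hMtop : M ≠ ⊤ := fun h => by
    haveI : A.Normal := normalizer_eq_top_iff.1 h
    rcases (inferInstance : A.Normal).eq_bot_or_eq_top with h' | h'
    · exact hz1 (mem_bot.1 (h' ▸ P.mem z))
    · exact P.ne_top hz1 h'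
  have hinvol : ∀ t ∈ M, orderOf t = 2 → t ∈ A := by
    intro t ht ho
    obtain ⟨T, hT⟩ := (IsPGroup.of_card (n := 1) (by rw [Nat.card_zpowers, Subgroup.orderOf_mk, ho, pow_one]) :
      IsPGroup 2 (zpowers (⟨t, ht⟩ : M))).exists_le_sylow
    obtain ⟨c, hc⟩ := MulAction.exists_smul_eq M T (S.subtype hSM)
    have h1 : MulAut.conj c ⟨t, ht⟩ ∈ (S.subtype hSM : Subgroup M) := by
      rw [← hc, Sylow.smul_def, Sylow.pointwise_smul_def]
      exact smul_mem_pointwise_smul _ _ _ (hT (mem_zpowers _))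
    exact (mem_normalizer_iff.1 c.2 t).2 (hSA h1)
  have hti : ∀ g : G, g ∉ M → ∀ h ∈ A, g⁻¹ * h * g ∈ A → h = 1 := by
    intro g hg h hh hgh
    by_contra h1
    refine hg (P.mem_normalizer hz1 (fun e => h1 ?_) hgh ?_)
    · have := congrArg (fun a => g * a * g⁻¹) e
      simpa [mul_assoc] using this
    · rwa [show g * (g⁻¹ * h * g) * g⁻¹ = h by group]
  have hse : Cfsg.IsStronglyEmbedded M := by
    refine ⟨hMtop, even_iff_two_dvd.2 ?_, fun g hg => Nat.odd_iff.2 ?_⟩
    · rw [← hz]; exact orderOf_dvd_natCard _ hzM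
    · rw [← Nat.two_dvd_ne_zero]
      intro hd
      obtain ⟨x, hx⟩ := exists_prime_orderOf_dvd_card' (G := ↥(M ⊓ M.map (MulAut.conj g).toMonoidHom)) 2 hd
      have hxo : orderOf x.1 = 2 := by rw [orderOf_coe, hx]
      obtain ⟨y, hy, hyx⟩ := mem_map.1 x.2.2
      have hyx' : g⁻¹ * x.1 * g = y := by
        rw [← hyx, MulEquiv.coe_toMonoidHom, MulAut.conj_apply]; group
      have h1 := hti g hg x.1 (hinvol _ x.2.1 hxo) (hinvol _ (hyx'.symm ▸ hy) (by
        rw [show g⁻¹ * x.1 * g = MulAut.conj g⁻¹ x.1 by simp, MulEquiv.orderOf_eq]; exact hxo))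
      rw [h1, orderOf_one] at hxo; omega
  -- every involution is conjugate into `S`
  have hinS : ∀ v : G, orderOf v = 2 → ∃ c : G, c * v * c⁻¹ ∈ (S : Subgroup G) := by
    intro v hv
    obtain ⟨T, hT⟩ := (IsPGroup.of_card (n := 1) (by rw [Nat.card_zpowers, hv, pow_one]) :
      IsPGroup 2 (zpowers v)).exists_le_sylow
    obtain ⟨c, hc⟩ := MulAction.exists_smul_eq G T S
    refine ⟨c, ?_⟩
    rw [← hc, Sylow.smul_def, Sylow.pointwise_smul_def, ← MulAut.conj_apply]
    exact smul_mem_pointwise_smul _ _ _ (hT (mem_zpowers v))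
  have hcl : ∀ a ∈ A, a ≠ 1 → ∀ x : G, Commute a x → x ∈ A := by
    intro a ha ha1 x hax
    by_contra hxA
    have hxM : x ∈ M := P.mem_normalizer_of_commute hz1 ha1 ha hax.symm
    have hL : ∀ g : G, g ≠ 1 → ¬ M ≤ P.comp g := fun g hg hle => hxA (by
      rw [hA, P.eq_of_mem hg hz1 (hle hzM)]; exact hle hxM)
    set P' := P.restrict M hL with hP'
    set z' : M := ⟨z, hzM⟩
    have hz'1 : z' ≠ 1 := fun e => hz1 (congrArg Subtype.val e)
    haveI hn : (P'.comp z').Normal := by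
      show (A.subgroupOf M).Normal
      exact (normal_subgroupOf_iff hAM).2 fun h k hh hk => (mem_normalizer_iff.1 hk h).1 hh
    have hmem : ∀ y : M, y ∈ P'.comp z' ↔ y.1 ∈ A := fun y => mem_subgroupOf
    have hx' : (⟨x, hxM⟩ : M) ∉ P'.comp z' := fun h => hxA ((hmem _).1 h)
    obtain ⟨hb, hxo⟩ := P'.bad_of_commute hz'1 (a := ⟨a, hAM ha⟩) ((hmem _).2 ha)
      (fun e => ha1 (congrArg Subtype.val e)) hx' (Subtype.ext hax.eq)
    generalize orderOf (⟨a, hAM ha⟩ : M) = p at hb hxo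
    have hp : p.Prime := hb.1
    have hp2 : p ≠ 2 := fun e => hxA (hinvol x hxM (by rw [← Subgroup.orderOf_mk x hxM, hxo, e]))
    haveI : Group.IsNilpotent (A.subgroupOf M) := P'.isNilpotent_comp hz'1 hb
    have hAn : Group.IsNilpotent A := Group.nilpotent_of_mulEquiv
      (show (A.subgroupOf M) ≃* A from subgroupOfEquivOfLe hAM)
    -- involutions moving the base point to a second one
    obtain ⟨g, hg⟩ : ∃ g : G, g ∉ M := by
      by_contra hno
      push Not at hno
      exact hMtop (eq_top_iff.2 fun g _ => hno g)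
    set o : G ⧸ M := ((1 : G) : G ⧸ M)
    set y : G ⧸ M := (g : G ⧸ M)
    have hoy : o ≠ y := fun e => hg (by simpa [o, y] using QuotientGroup.eq.1 e)
    have hfix : ∀ v : G, v • o = o → v ∈ M := fun v hv => by
      simpa using (TwoGroups.SE.smul_mk_eq_iff v 1).1 hv
    have hi := TwoGroups.SE.card_swapping hse o y hoy
    have hpos : 0 < Nat.card {v : G // orderOf v = 2 ∧ v • o = y} := by
      rw [hi]
      haveI : Nonempty {t : G // orderOf t = 2 ∧ t ∈ M} := ⟨⟨z, hz, hzM⟩⟩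
      exact Nat.card_pos
    obtain ⟨⟨v0, hv0, hv0y⟩⟩ := (Nat.card_pos_iff.1 hpos).1
    have hinv : ∀ {v : G}, orderOf v = 2 → v⁻¹ = v := fun {v} hv =>
      inv_eq_of_mul_eq_one_right (by rw [← pow_two, orderOf_dvd_iff_pow_eq_one.1 hv.dvd])
    have hnotM : ∀ {v : G}, v • o = y → v ∉ M := fun {v} hv hvM => hoy (by
      rw [← hv]; exact ((TwoGroups.SE.smul_mk_eq_iff v 1).2 (by simpa using hvM)).symm)
    have hmul : ∀ v : {v : G // orderOf v = 2 ∧ v • o = y}, v0 * v.1 ∈ M := fun v => hfix _ (by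
      rw [mul_smul, v.2.2, ← hv0y, ← mul_smul, ← pow_two, orderOf_dvd_iff_pow_eq_one.1 hv0.dvd, one_smul])
    let f : {v : G // orderOf v = 2 ∧ v • o = y} → M ⧸ P'.comp z' := fun v =>
      ((⟨v0 * v.1, hmul v⟩ : M) : M ⧸ P'.comp z')
    have hfinj : Function.Injective f := by
      rintro ⟨v, hv, hvy⟩ ⟨w, hw, hwy⟩ e
      have e' := (hmem _).1 (QuotientGroup.eq.1 e)
      have hb' : v * w ∈ A := by
        have e'' : (v0 * v)⁻¹ * (v0 * w) ∈ A := e'
        rwa [mul_inv_rev, mul_assoc, inv_mul_cancel_left, hinv hv] at e''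
      have h1 := hti v (hnotM hvy) _ hb' (by
        have : v⁻¹ * (v * w) * v = (v * w)⁻¹ := by
          rw [mul_inv_rev, inv_mul_cancel_left, hinv hv, hinv hw]
        rw [this]; exact inv_mem hb')
      refine Subtype.ext ?_
      show v = w
      rw [eq_inv_of_mul_eq_one_left h1, hinv hw]
    set K := (centralizer ({z} : Set G)).subgroupOf M with hK
    have hKA : K ≤ P'.comp z' := fun m hm =>
      (hmem m).2 (hI z m.1 hz (mem_centralizer_singleton_iff.1 hm).symm)
    have hcard : Nat.card (M ⧸ P'.comp z') ≤ Nat.card {v : G // orderOf v = 2 ∧ v • o = y} := by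
      rw [hi]
      refine le_trans (Nat.le_of_dvd Nat.card_pos ?_) (Nat.card_le_card_of_injective
        (fun q : M ⧸ K => (⟨q.out.1 * z * q.out.1⁻¹, by
          rw [← MulAut.conj_apply, MulEquiv.orderOf_eq]; exact hz,
          mul_mem (mul_mem q.out.2 hzM) (inv_mem q.out.2)⟩ : {t : G // orderOf t = 2 ∧ t ∈ M})) ?_)
      · rw [← index_eq_card, ← index_eq_card]; exact index_dvd_of_le hKA
      · intro q r e
        rw [← q.out_eq, ← r.out_eq]
        refine QuotientGroup.eq.2 (mem_subgroupOf.2 (mem_centralizer_singleton_iff.2 ?_))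
        have e' : q.out.1 * z * q.out.1⁻¹ = r.out.1 * z * r.out.1⁻¹ := congrArg Subtype.val e
        calc ((q.out⁻¹ * r.out : M) : G) * z = q.out.1⁻¹ * (r.out.1 * z * r.out.1⁻¹) * r.out.1 := by
              rw [Subgroup.coe_mul, Subgroup.coe_inv]; group
          _ = z * ((q.out⁻¹ * r.out : M) : G) := by
              rw [← e', Subgroup.coe_mul, Subgroup.coe_inv]; group
    obtain ⟨⟨w, hw, hwy⟩, hw'⟩ := (hfinj.bijective_of_nat_card_le hcard).2
      ((⟨x, hxM⟩ : M) : M ⧸ P'.comp z')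
    set k := v0 * w with hk
    set k' : M := ⟨k, hmul ⟨w, hw, hwy⟩⟩ with hk'
    have hw'' : (k' : M ⧸ P'.comp z') = ((⟨x, hxM⟩ : M) : M ⧸ P'.comp z') := hw'
    have hk'A : k' ∉ P'.comp z' := fun h => hx' ((QuotientGroup.eq_one_iff _).1
      (hw''.symm.trans ((QuotientGroup.eq_one_iff _).2 h)))
    have hko' : orderOf k' = p := by
      rw [← P'.orderOf_mk hz'1 hk'A, hw'', P'.orderOf_mk hz'1 hx', hxo]
    have hko : orderOf k = p := by rw [← hko', Subgroup.orderOf_mk]
    have hk1 : k ≠ 1 := fun e => by rw [e, orderOf_one] at hko; exact hp.ne_one hko.symm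
    have hkinv : v0 * k * v0⁻¹ = k⁻¹ := by
      rw [hk, mul_inv_rev, hinv hw, hinv hv0, ← mul_assoc v0 v0, ← pow_two,
        orderOf_dvd_iff_pow_eq_one.1 hv0.dvd, one_mul]
    obtain ⟨a1, ha1m, ha11, hka, -⟩ := P'.exists_commute_of_orderOf_eq hz'1 hb hk'A hko'
    have hka' : Commute k a1.1 := congrArg Subtype.val hka.eq
    have hW : ∀ y ∈ centralizer ({k} : Set G), v0 * y * v0⁻¹ ∈ centralizer ({k} : Set G) := by
      intro y hy
      have hyk : Commute y k := mem_centralizer_singleton_iff.1 hy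
      rw [mem_centralizer_singleton_iff]
      have h1 : Commute (v0 * y * v0⁻¹) k⁻¹ := hkinv ▸ hyk.map (MulAut.conj v0)
      exact (show Commute (v0 * y * v0⁻¹) k by simpa using h1.inv_right).eq
    have hinv2 := inverts_of_fpf (W := centralizer ({k} : Set G)) (v := v0)
      (by rw [← pow_two, orderOf_dvd_iff_pow_eq_one.1 hv0.dvd]) hW ?_ a1.1
      (mem_centralizer_singleton_iff.2 hka'.symm.eq)
    · refine ha11 (Subtype.ext (hti v0 (hnotM hv0y) a1.1 ((hmem a1).1 ha1m) ?_))
      rw [hinv hv0]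
      have := inv_mem ((hmem a1).1 ha1m)
      rw [← hinv2, hinv hv0] at this
      exact this
    intro y hy hv0c
    by_contra hy1
    have hyB : y ∈ P.comp v0 := hI v0 y hv0 hv0c
    have hv01 : v0 ≠ 1 := fun e => by rw [e, orderOf_one] at hv0; omega
    have hkN : k ∈ normalizer (P.comp v0 : Set G) :=
      P.mem_normalizer_of_commute hv01 hy1 hyB (mem_centralizer_singleton_iff.1 hy).symm
    have hk2 : k * k ∈ P.comp v0 := by
      have h1 := mul_mem ((mem_normalizer_iff.1 hkN v0).1 (P.mem v0)) (inv_mem (P.mem v0))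
      have h2 : k * v0 * k⁻¹ * v0⁻¹ = k * k := by
        calc k * v0 * k⁻¹ * v0⁻¹ = k * (v0 * k * v0⁻¹)⁻¹ := by group
          _ = k * k := by rw [hkinv, inv_inv]
      rwa [h2] at h1
    have hkB : k ∈ P.comp v0 := by
      obtain ⟨j, hj⟩ := exists_pow_eq_self_of_coprime (x := k) (n := 2)
        (hko.symm ▸ (Nat.coprime_primes Nat.prime_two hp).2 hp2.symm)
      rw [← pow_two] at hk2
      exact hj ▸ pow_mem hk2 j
    obtain ⟨c, hc⟩ := hinS v0 hv0
    have hc1 : c * v0 * c⁻¹ ≠ 1 := fun e => hv01 (by simpa using e)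
    have hck : c * k * c⁻¹ ∈ A := by
      have h1 := P.conj_mem c hkB
      rwa [P.eq_of_mem hz1 hc1 (hSA hc)] at h1
    have hcomm : Commute (c * k * c⁻¹) (c * v0 * c⁻¹) :=
      CfsgLib.OddLocal.commute_of_mem_nilpotent hAn hck (hSA hc) (by
        rw [← MulAut.conj_apply, ← MulAut.conj_apply, MulEquiv.orderOf_eq, MulEquiv.orderOf_eq, hko, hv0]
        exact (Nat.coprime_primes hp Nat.prime_two).2 hp2)
    have hkv : Commute k v0 := by
      have := hcomm.map (MulAut.conj c⁻¹)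
      simpa [mul_assoc] using this
    rw [← hkv.eq, mul_inv_cancel_right, eq_inv_iff_mul_eq_one, ← pow_two] at hkinv
    have hd := orderOf_dvd_of_pow_eq_one hkinv
    rw [hko] at hd
    exact hp2 ((Nat.prime_dvd_prime_iff_eq hp Nat.prime_two).1 hd)
  have hE : CfsgLib.CIT.Embedded M A :=
    ⟨hse, hAM, le_rfl, hinvol, fun h hh h1 c hc =>
      hcl h hh h1 c (mem_centralizer_singleton_iff.1 hc).symm, hti⟩
  -- a second involution, by the Z*-theorem
  obtain ⟨v, hvS, hv, hvz⟩ : ∃ v ∈ (S : Subgroup G), orderOf v = 2 ∧ v ≠ z := by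
    by_contra hone
    push Not at hone
    obtain ⟨N, hN, hNodd, hNc⟩ := Cfsg.Agent.S0215.result S z hz zS.2 fun g hg =>
      hone _ hg (by rw [← MulAut.conj_apply, MulEquiv.orderOf_eq]; exact hz)
    rcases hN.eq_bot_or_eq_top with hNb | hNt
    · have hzZ : z ∈ center G := mem_center_iff.2 fun g => by
        have h1 := mem_bot.1 (hNb ▸ hNc g)
        calc g * z = (z * g * z⁻¹ * g⁻¹)⁻¹ * z * g := by group
          _ = z * g := by rw [h1, inv_one, one_mul]
      rw [CfsgLib.CIT.simple_center_eq_bot hna] at hzZ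
      exact hz1 (mem_bot.1 hzZ)
    · rw [hNt, card_top] at hNodd
      exact hNodd.not_two_dvd_nat h2
  have hvM : v ∈ M := hSM hvS
  have hi : 2 ≤ hE.invCount := by
    haveI : Nontrivial {t : G // orderOf t = 2 ∧ t ∈ M} :=
      ⟨⟨⟨z, hz, hzM⟩, ⟨v, hv, hvM⟩, fun e => hvz (congrArg Subtype.val e).symm⟩⟩
    exact Finite.one_lt_card
  have hcm : ∃ s t : G, s ∈ M ∧ t ∈ M ∧ orderOf s = 2 ∧ orderOf t = 2 ∧ s ≠ t ∧ s * t = t * s :=
    ⟨z, v, hzM, hvM, hz, hv, hvz.symm, (hzc v hvS).eq⟩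
  have hfaith := CfsgLib.CIT.FrobSystem.simple_faithful hMtop
  have hAp : IsPGroup 2 A := by
    haveI : Fintype (G ⧸ M) := Fintype.ofFinite _
    have hpp := Cfsg.Agent.S0346.result (hE.isZassenhaus hi hcm hfaith)
    rw [← Nat.card_eq_fintype_card, hE.card_points hi, Nat.add_sub_cancel] at hpp
    obtain ⟨q, n, hq, hn, hqn⟩ := hpp
    have h2A : 2 ∣ q ^ n := by rw [hqn, ← hz]; exact orderOf_dvd_natCard _ (P.mem z)
    have hq2 : q = 2 := ((Nat.prime_dvd_prime_iff_eq Nat.prime_two (Nat.prime_iff.2 hq)).1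
      (Nat.prime_two.dvd_of_dvd_pow h2A)).symm
    exact IsPGroup.of_card (n := n) (hq2 ▸ hqn.symm)
  exact CfsgLib.CIT.FrobSystem.classify_two_kernel hE hi hAp hcm hfaith

/-- A simple group with a partition. -/
theorem simple_case [IsSimpleGroup G] (hna : ¬ IsMulCommutative G) (h2 : 2 ∣ Nat.card G) :
    ((∃ (F : Type) (_ : Field F) (_ : Fintype F), Odd (Fintype.card F) ∧
        Nonempty (G ≃* Matrix.ProjectiveSpecialLinearGroup (Fin 2) F)) ∧ P.Sep) ∨
    (∃ (K : Type) (_ : Field K) (_ : Fintype K), (∃ n : ℕ, 2 ≤ n ∧ Fintype.card K = 2 ^ n) ∧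
        Nonempty (G ≃* Matrix.SpecialLinearGroup (Fin 2) K)) ∨
    Cfsg.Lie.IsoSuzuki G := by
  by_cases h : ∀ t x : G, orderOf t = 2 → Commute t x → x ∈ P.comp t
  · exact Or.inr (P.embedded_case hna h2 h)
  · push Not at h
    obtain ⟨t, x, ht, hc, hx⟩ := h
    exact P.split_case hna ht hc hx

end Pn

end CfsgLib.Partition
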