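import Cfsg.Agent.Lib.Partition.Basic
import Cfsg.Agent.Lib.Transfer.ThompsonTransfer
import Cfsg.Agent.Lib.Core.Basic

/-!
# Involutions with a centraliser outside their component

For an involution `z` with an element `u` of its centraliser outside `comp z`, the group
`D = C(z) ∩ comp z` is inverted by every element of `C(z) \ D`, all of which are involutions. If `D` is
not elementary, it has index 2 and, in a simple group, a single involution.
-/

set_option autoImplicit false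

open Subgroup

namespace CfsgLib.Partition

variable {G : Type*} [Group G]

/-- A fixed point free involution inverts. -/
theorem inverts_of_fpf [Finite G] {W : Subgroup G} {v : G} (hv : v * v = 1)
    (hW : ∀ w ∈ W, v * w * v⁻¹ ∈ W) (hfpf : ∀ w ∈ W, Commute v w → w = 1) :
    ∀ w ∈ W, v * w * v⁻¹ = w⁻¹ := by
  let f : W → W := fun w => ⟨w.1⁻¹ * (v * w.1 * v⁻¹), mul_mem (inv_mem w.2) (hW _ w.2)⟩
  have hinj : Function.Injective f := by
    intro a b e
    have e' : a.1⁻¹ * (v * a.1 * v⁻¹) = b.1⁻¹ * (v * b.1 * v⁻¹) := congrArg Subtype.val e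
    have h := hfpf _ (mul_mem b.2 (inv_mem a.2)) (mul_inv_eq_iff_eq_mul.1 ?_)
    · exact Subtype.ext (mul_inv_eq_one.1 h).symm
    · calc v * (b.1 * a.1⁻¹) * v⁻¹ = (v * b.1 * v⁻¹) * (v * a.1 * v⁻¹)⁻¹ := by group
        _ = b.1 * (b.1⁻¹ * (v * b.1 * v⁻¹)) * (a.1⁻¹ * (v * a.1 * v⁻¹))⁻¹ * a.1⁻¹ := by group
        _ = b.1 * a.1⁻¹ := by rw [e']; group
  intro w hw
  obtain ⟨x, hx⟩ := Finite.surjective_of_injective hinj ⟨w, hw⟩
  have hx' : x.1⁻¹ * (v * x.1 * v⁻¹) = w := congrArg Subtype.val hx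
  have hvi : v⁻¹ = v := inv_eq_of_mul_eq_one_right hv
  calc v * w * v⁻¹ = v * x.1⁻¹ * v⁻¹ * ((v * v) * x.1 * (v * v)⁻¹) := by rw [← hx']; group
    _ = w⁻¹ := by rw [hv, ← hx']; group

namespace Pn

variable [Finite G] (P : Pn G)

/-- `C(z) ∩ comp z`. -/
def dd (z : G) : Subgroup G := centralizer ({z} : Set G) ⊓ P.comp z

omit [Finite G] in
theorem mem_dd {z d : G} : d ∈ P.dd z ↔ Commute d z ∧ d ∈ P.comp z := by
  rw [dd, mem_inf, mem_centralizer_singleton_iff]; rfl

theorem outside_sq {z v : G} (hz : orderOf z = 2) (hc : Commute z v) (hv : v ∉ P.comp z) :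
    orderOf v = 2 :=
  (P.out_order (fun e => by rw [e, orderOf_one] at hz; omega) hc hv).2.trans hz

/-- An element of `C(z)` outside `comp z` inverts `C(z) ∩ comp z`. -/
theorem inverts_dd {z v d : G} (hz : orderOf z = 2) (hc : Commute z v) (hv : v ∉ P.comp z)
    (hd : d ∈ P.dd z) : v * d * v⁻¹ = d⁻¹ := by
  obtain ⟨hdz, hdc⟩ := P.mem_dd.1 hd
  have h1 := orderOf_dvd_iff_pow_eq_one.1
    (P.outside_sq hz (hdz.symm.mul_right hc) fun h => hv (by simpa using mul_mem (inv_mem hdc) h)).dvd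
  have h2 := orderOf_dvd_iff_pow_eq_one.1 (P.outside_sq hz hc hv).dvd
  rw [pow_two] at h1 h2
  rw [inv_eq_of_mul_eq_one_right h2]
  exact eq_inv_of_mul_eq_one_right (by rw [← mul_assoc, ← mul_assoc, mul_assoc (d * v)]; exact h1)

theorem dd_comm {z v : G} (hz : orderOf z = 2) (hc : Commute z v) (hv : v ∉ P.comp z) {a b : G}
    (ha : a ∈ P.dd z) (hb : b ∈ P.dd z) : Commute a b := by
  have h := P.inverts_dd hz hc hv (mul_mem ha hb)
  rw [← MulAut.conj_apply, map_mul, MulAut.conj_apply, MulAut.conj_apply, P.inverts_dd hz hc hv ha,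
    P.inverts_dd hz hc hv hb, ← mul_inv_rev, inv_inj] at h
  exact h.symm

theorem mul_mem_dd {z v w d : G} (hz : orderOf z = 2) (hv : Commute z v) (hv' : v ∉ P.comp z)
    (hw : Commute z w) (hw' : w ∉ P.comp z) (hd : d ∈ P.dd z) (hd2 : d * d ≠ 1) : v * w ∈ P.dd z := by
  refine P.mem_dd.2 ⟨(hv.mul_right hw).symm, by_contra fun h => hd2 ?_⟩
  have h1 := P.inverts_dd hz (hv.mul_right hw) h hd
  have h2 : v * w * d * (v * w)⁻¹ = d := by
    calc v * w * d * (v * w)⁻¹ = v * (w * d * w⁻¹) * v⁻¹ := by group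
      _ = (v * d * v⁻¹)⁻¹ := by rw [P.inverts_dd hz hw hw' hd]; group
      _ = d := by rw [P.inverts_dd hz hv hv' hd, inv_inv]
  rw [h2] at h1
  rw [← inv_inv (d * d), mul_inv_rev, ← h1]
  exact inv_eq_one.2 (by nth_rewrite 2 [h1]; exact mul_inv_cancel d)

/-- An involution of `C(z) ∩ comp z` other than `z` has no such element in its own centraliser outside. -/
theorem eq_of_commute_outside {z u e : G} (hz : orderOf z = 2) (hu : orderOf u = 2) (hc : Commute z u)
    (huc : u ∉ P.comp z) (he : e ∈ P.dd z) (he2 : e * e = 1) (he1 : e ≠ 1)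
    {d : G} (hd : d ∈ P.dd u) (hd2 : d * d ≠ 1) : e = z := by
  have hz1 : z ≠ 1 := fun h => by rw [h, orderOf_one] at hz; omega
  have hu1 : u ≠ 1 := fun h => by rw [h, orderOf_one] at hu; omega
  have hzu : z ∉ P.comp u := fun h => huc (P.eq_of_mem hu1 hz1 h ▸ P.mem u)
  have hee : u * e * u⁻¹ = e := by rw [P.inverts_dd hz hc huc he, inv_eq_of_mul_eq_one_right he2]
  have heu : Commute u e := mul_inv_eq_iff_eq_mul.1 hee
  have hout : e ∉ P.comp u := fun h => huc ((P.eq_of_common hz1 hu1 he1 (P.mem_dd.1 he).2 h).symm ▸ P.mem u)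
  have hm := (P.mem_dd.1 (P.mul_mem_dd hu heu hout hc.symm hzu hd hd2)).2
  by_contra hne
  have hne1 : e * z ≠ 1 := fun h => hne (by
    rw [eq_inv_of_mul_eq_one_left h]; exact inv_eq_of_mul_eq_one_right (by rw [← pow_two, ← hz, pow_orderOf_eq_one]))
  exact huc ((P.eq_of_common hz1 hu1 hne1 (mul_mem (P.mem_dd.1 he).2 (P.mem z)) hm).symm ▸ P.mem u)

omit [Finite G] in
theorem conj_mem_dd (g : G) {z d : G} (hd : d ∈ P.dd z) : g * d * g⁻¹ ∈ P.dd (g * z * g⁻¹) := by
  obtain ⟨h1, h2⟩ := P.mem_dd.1 hd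
  exact P.mem_dd.2 ⟨(commute_iff_eq _ _).2 (by simpa [mul_assoc] using congrArg (fun a => g * a * g⁻¹) h1.eq), P.conj_mem g h2⟩

/-- In a simple group, a nonelementary `C(z) ∩ comp z` contains one involution, and every involution of
the Sylow subgroup is conjugate to it. -/
theorem nonelementary [IsSimpleGroup G] (hna : ¬ IsMulCommutative G) (S : Sylow 2 G) {z : G}
    (hz : orderOf z = 2) (hzS : ∀ s ∈ (S : Subgroup G), Commute z s) {v0 : G} (hv0 : Commute z v0)
    (hv0' : v0 ∉ P.comp z) {d : G} (hd : d ∈ P.dd z) (hd2 : d * d ≠ 1) :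
    (∃ u ∈ (S : Subgroup G), u ∉ P.comp z) ∧
      (∀ e ∈ P.dd z, e * e = 1 → e = 1 ∨ e = z) ∧
      (∀ v ∈ (S : Subgroup G), v ∉ P.comp z → ∃ g : G, g * v * g⁻¹ = z) := by
  classical
  haveI : Fact (Nat.Prime 2) := ⟨Nat.prime_two⟩
  have hz1 : z ≠ 1 := fun h => by rw [h, orderOf_one] at hz; omega
  have hSC : (S : Subgroup G) ≤ centralizer ({z} : Set G) := fun s hs =>
    mem_centralizer_singleton_iff.2 (hzS s hs).symm.eq
  have hdC : P.dd z ≤ centralizer ({z} : Set G) := inf_le_left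
  have hzmem : z ∈ centralizer ({z} : Set G) := mem_centralizer_singleton_iff.2 rfl
  -- some element of `S` lies outside
  obtain ⟨u0, hu0S, hu0⟩ : ∃ u ∈ (S : Subgroup G), u ∉ P.comp z := by
    have hv2 := P.outside_sq hz hv0 hv0'
    set C := centralizer ({z} : Set G) with hC
    have hvC : v0 ∈ C := mem_centralizer_singleton_iff.2 hv0.symm.eq
    obtain ⟨T, hT⟩ := (IsPGroup.of_card (n := 1) (by rw [Nat.card_zpowers, orderOf_mk, hv2, pow_one]) :
      IsPGroup 2 (zpowers (⟨v0, hvC⟩ : C))).exists_le_sylow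
    obtain ⟨c, hc⟩ := MulAction.exists_smul_eq C T (S.subtype hSC)
    have h1 : MulAut.conj c ⟨v0, hvC⟩ ∈ (S.subtype hSC : Subgroup C) := by
      rw [← hc, Sylow.smul_def, Sylow.pointwise_smul_def]
      exact smul_mem_pointwise_smul _ _ _ (hT (mem_zpowers _))
    refine ⟨c.1 * v0 * c.1⁻¹, h1, fun h => hv0' ?_⟩
    have hcz : c.1⁻¹ * z * c.1 = z := by
      rw [mul_assoc, ← mem_centralizer_singleton_iff.1 c.2, inv_mul_cancel_left]
    have := P.conj_mem c.1⁻¹ h
    rw [inv_inv, hcz] at this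
    simpa [mul_assoc] using this
  have hidx : ((S : Subgroup G) ⊓ P.dd z).relIndex (S : Subgroup G) = 2 := by
    rw [relIndex, index_eq_two_iff]
    refine ⟨⟨u0, hu0S⟩, fun b => ?_⟩
    simp only [mem_subgroupOf, mem_inf, Subgroup.coe_mul, SetLike.coe_mem, true_and,
      mul_mem b.2 hu0S]
    have hb := hzS b.1 b.2
    by_cases hbd : b.1 ∈ P.dd z
    · exact Or.inr ⟨hbd, fun h => hu0 (P.mem_dd.1 (by simpa using mul_mem (inv_mem hbd) h : u0 ∈ P.dd z)).2⟩
    · refine Or.inl ⟨P.mul_mem_dd hz hb (fun h => hbd (P.mem_dd.2 ⟨hb.symm, h⟩)) (hzS u0 hu0S) hu0 hd hd2, hbd⟩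
  have hconj : ∀ v ∈ (S : Subgroup G), v ∉ P.comp z → ∃ g : G, g * v * g⁻¹ ∈ P.dd z := by
    intro v hv hvc
    rcases CfsgLib.Transfer.thompson_transfer S _ hidx (P.outside_sq hz (hzS v hv) hvc) with
      ⟨M, hM, hMi, -⟩ | ⟨g, hg⟩
    · exfalso
      rcases hM.eq_bot_or_eq_top with h | h
      · rw [h, index_bot] at hMi
        haveI := isCyclic_of_prime_card (α := G) hMi
        letI : CommGroup G := IsCyclic.commGroup
        exact hna ⟨⟨mul_comm⟩⟩
      · rw [h, index_top] at hMi; omega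
    · exact ⟨g, hg.2⟩
  have huniq : ∀ v ∈ (S : Subgroup G), v ∉ P.comp z → ∀ e ∈ P.dd z, e * e = 1 → e ≠ 1 → e = z := by
    intro v hv hvc e he he2 he1
    have hv2 := P.outside_sq hz (hzS v hv) hvc
    have hv1 : v ≠ 1 := fun h => by rw [h, orderOf_one] at hv2; omega
    obtain ⟨g, hg⟩ := hconj v hv hvc
    set e0 := g * v * g⁻¹
    have he01 : e0 ≠ 1 := fun h => hv1 (by simpa [e0] using h)
    have he02 : orderOf e0 = 2 := by
      refine orderOf_eq_prime ?_ he01
      simp only [e0]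
      rw [conj_pow, orderOf_dvd_iff_pow_eq_one.1 hv2.dvd, mul_one, mul_inv_cancel]
    -- `d` is a nonelementary element at `e0`
    have hde : d ∈ P.dd e0 := by
      have hc : Commute d e0 := P.dd_comm hz (hzS v hv) hvc hd hg
      refine P.mem_dd.2 ⟨hc, by_contra fun h => hd2 ?_⟩
      rw [← pow_two]
      exact orderOf_dvd_iff_pow_eq_one.1 (P.outside_sq he02 hc.symm h).dvd
    have hd' := P.conj_mem_dd g⁻¹ hde
    rw [show g⁻¹ * e0 * g⁻¹⁻¹ = v by simp only [e0]; group] at hd'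
    exact P.eq_of_commute_outside hz hv2 (hzS v hv) hvc he he2 he1 hd' (fun h => hd2 (by
      have := congrArg (fun a => g * a * g⁻¹) h
      simpa [mul_assoc] using this))
  refine ⟨⟨u0, hu0S, hu0⟩, fun e he he2 => or_iff_not_imp_left.2 (huniq u0 hu0S hu0 e he he2), fun v hv hvc => ?_⟩
  obtain ⟨g, hg⟩ := hconj v hv hvc
  have hv2 := P.outside_sq hz (hzS v hv) hvc
  refine ⟨g, huniq v hv hvc _ hg ?_ fun h => ?_⟩
  · rw [← pow_two, conj_pow, orderOf_dvd_iff_pow_eq_one.1 hv2.dvd, mul_one, mul_inv_cancel]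
  · have : v = 1 := by simpa using h
    rw [this, orderOf_one] at hv2; omega

end Pn

end CfsgLib.Partition
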