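import Cfsg.Agent.Lib.Partition.OuterBasic
import Cfsg.Agent.Lib.Partition.Involutions
import Cfsg.Agent.Lib.Classical.Dickson.PlatonicIff

/-!
# No field automorphisms

A group with a partition and no normal component between `PSL(2, q)` and its automorphism group induces
only inner-diagonal automorphisms: a field automorphism would put a generating set of a characteristic
subgroup, or two commuting involutions, in one component.
-/

set_option autoImplicit false

open Subgroup Matrix CfsgLib.Known.AutPSL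

namespace CfsgLib.Partition

variable {G : Type*} [Group G] [Finite G] {F : Type*} [Field F] [Fintype F]

/-- An element of `SL(2, F)` given by its entries. -/
def sl2 (a b c d : F) (h : a * d - b * c = 1) : SL 2 F :=
  ⟨!![a, b; c, d], by rw [Matrix.det_fin_two_of, h]⟩

omit [Fintype F] in
theorem coe_sl2 (a b c d : F) (h : a * d - b * c = 1) :
    (sl2 a b c d h : Matrix (Fin 2) (Fin 2) F) = !![a, b; c, d] := rfl

/-- An element of `PSL(2, F)` given by its entries. -/
def el (a b c d : F) (h : a * d - b * c = 1) : PSL 2 F :=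
  proj 2 F (sl2 a b c d h)

/-- The upper root element. -/
def eU (x : F) : PSL 2 F := el 1 x 0 1 (by ring)

/-- The lower root element. -/
def eL (x : F) : PSL 2 F := el 1 0 x 1 (by ring)

/-- The Weyl element. -/
def eW (F : Type*) [Field F] : PSL 2 F := el 0 1 (-1) 0 (by ring)

omit [Fintype F] in
theorem el_mul {a b c d : F} (h : a * d - b * c = 1) {a' b' c' d' : F} (h' : a' * d' - b' * c' = 1)
    {A B C D : F} (e : A * D - B * C = 1) (h1 : a * a' + b * c' = A) (h2 : a * b' + b * d' = B)
    (h3 : c * a' + d * c' = C) (h4 : c * b' + d * d' = D) :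
    el a b c d h * el a' b' c' d' h' = el A B C D e := by
  rw [el, el, el, ← map_mul]
  congr 1
  refine Subtype.ext (Matrix.ext fun i j => ?_)
  fin_cases i <;> fin_cases j <;> simp [coe_sl2, Matrix.mul_apply, Fin.sum_univ_two, h1, h2, h3, h4]

omit [Fintype F] in
theorem el_eq_iff {a b c d : F} (h : a * d - b * c = 1) {a' b' c' d' : F} (h' : a' * d' - b' * c' = 1) :
    el a b c d h = el a' b' c' d' h' ↔
      ∃ k : F, k ≠ 0 ∧ a' = k * a ∧ b' = k * b ∧ c' = k * c ∧ d' = k * d := by
  rw [el, el, proj_eq_iff]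
  simp only [coe_sl2]
  refine exists_congr fun k => and_congr_right fun _ => ⟨fun e => ?_, ?_⟩
  · have e' : ∀ i j, (!![a', b'; c', d'] : Matrix (Fin 2) (Fin 2) F) i j =
        (k • (!![a, b; c, d] : Matrix (Fin 2) (Fin 2) F)) i j := fun i j => congrFun (congrFun e i) j
    exact ⟨by simpa using e' 0 0, by simpa using e' 0 1, by simpa using e' 1 0, by simpa using e' 1 1⟩
  · rintro ⟨rfl, rfl, rfl, rfl⟩
    ext i j
    fin_cases i <;> fin_cases j <;> simp

omit [Fintype F] in
theorem el_one : el (1 : F) 0 0 1 (by ring) = 1 := by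
  rw [el, ← map_one (proj 2 F)]
  congr 1
  refine Subtype.ext (Matrix.ext fun i j => ?_)
  fin_cases i <;> fin_cases j <;> simp [coe_sl2]

omit [Fintype F] in
theorem semilin_one_el (σ : F ≃+* F) {a b c d : F} (h : a * d - b * c = 1) :
    semilin 1 σ (el a b c d h) =
      el (σ a) (σ b) (σ c) (σ d) (by rw [← map_mul, ← map_mul, ← map_sub, h, map_one]) := by
  rw [el, el, semilin_proj]
  congr 1
  refine Subtype.ext ?_
  rw [coe_slConjHom, coe_sl2, coe_sl2]
  ext i j
  fin_cases i <;> fin_cases j <;> simp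

omit [Fintype F] in
theorem eU_mul (x y : F) : eU x * eU y = eU (x + y) :=
  el_mul _ _ _ (by ring) (by ring) (by ring) (by ring)

omit [Fintype F] in
theorem eL_mul (x y : F) : eL x * eL y = eL (x + y) :=
  el_mul _ _ _ (by ring) (by ring) (by ring) (by ring)

omit [Fintype F] in
theorem eU_zero : eU (0 : F) = 1 := el_one

omit [Fintype F] in
theorem eL_zero : eL (0 : F) = 1 := el_one

omit [Fintype F] in
theorem eU_eq_one {x : F} (h : eU x = 1) : x = 0 := by
  rw [← eU_zero, eU, eU, el_eq_iff] at h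
  obtain ⟨k, hk, -, h2, -, -⟩ := h
  exact (mul_eq_zero.1 h2.symm).resolve_left hk

omit [Fintype F] in
theorem eL_eq_one {x : F} (h : eL x = 1) : x = 0 := by
  rw [← eL_zero, eL, eL, el_eq_iff] at h
  obtain ⟨k, hk, -, -, h3, -⟩ := h
  exact (mul_eq_zero.1 h3.symm).resolve_left hk

omit [Fintype F] in
theorem eW_mul_eW : eW F * eW F = 1 := by
  rw [← el_one, eW, el_mul (A := -1) (B := 0) (C := 0) (D := -1) _ _ (by ring) (by ring) (by ring) (by ring) (by ring), el_eq_iff]
  exact ⟨-1, neg_ne_zero.2 one_ne_zero, by ring, by ring, by ring, by ring⟩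

omit [Fintype F] in
theorem eW_ne_one : eW F ≠ 1 := fun h => by
  rw [← el_one, eW, el_eq_iff] at h
  obtain ⟨k, -, h1, -⟩ := h
  rw [mul_zero] at h1
  exact one_ne_zero h1

omit [Fintype F] in
theorem eq_top_of_roots {S : Subgroup (PSL 2 F)} (hu : ∀ x, eU x ∈ S) (hl : ∀ x, eL x ∈ S) : S = ⊤ := by
  refine (eq_top_iff' S).2 fun y => ?_
  obtain ⟨s, rfl⟩ := proj_surjective y
  refine Matrix.SL2.transvection_induction (fun s => proj 2 F s ∈ S) ?_ ?_ s
  · intro i j hij c
    fin_cases i <;> fin_cases j <;> simp only [Fin.zero_eta, Fin.mk_one, Fin.isValue, ne_eq, not_true] at hij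
    · convert hu c using 1
      rw [eU, el]
      congr 1
      refine Subtype.ext (Matrix.ext fun k l => ?_)
      fin_cases k <;> fin_cases l <;> simp [coe_sl2, Matrix.SpecialLinearGroup.transvection, Matrix.transvection]
    · convert hl c using 1
      rw [eL, el]
      congr 1
      refine Subtype.ext (Matrix.ext fun k l => ?_)
      fin_cases k <;> fin_cases l <;> simp [coe_sl2, Matrix.SpecialLinearGroup.transvection, Matrix.transvection]
  · intro A B hA hB
    rw [map_mul]
    exact mul_mem hA hB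

/-- Field automorphisms as automorphisms of `PSL(2, F)`. -/
def fieldHom2 (F : Type*) [Field F] : (F ≃+* F) →* MulAut (PSL 2 F) :=
  MonoidHom.mk' (fun σ => semilin 1 σ) fun σ τ => by
    rw [semilin_mul, map_one, one_mul]
    rfl

omit [Fintype F] in
theorem fieldHom2_injective : Function.Injective (fieldHom2 F) :=
  (injective_iff_map_eq_one _).2 fun σ h => ((semilin_eq_one_iff le_rfl 1 σ).1 h).1

namespace Pn

variable (P : Pn G) (a : Almost G (PSL 2 F))

omit [Fintype F] in
theorem field_fix (s : G) {σ : F ≃+* F} (hs : a.act s = semilin 1 σ) {x y z t : F}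
    (h : x * t - y * z = 1) (hx : σ x = x) (hy : σ y = y) (hz : σ z = z) (ht : σ t = t) :
    Commute s (a.inc (el x y z t h)) := by
  refine a.commute_of_fixed ?_
  rw [hs, semilin_one_el]
  congr 1

omit [Fintype F] in
/-- The even case with a field automorphism of prime order. -/
theorem even_field_false (h8 : ∃ x : F, x ^ 4 ≠ x) (h2 : (2 : F) = 0)
    (hgen : ∀ g : G, g ≠ 1 → ¬ a.inc.range ≤ P.comp g) (hZ : center (PSL 2 F) = ⊥)
    (s : G) (σ : F ≃+* F) (hs : a.act s = semilin 1 σ) (hσ : (orderOf σ).Prime) : False := by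
  haveI : CharP F 2 := CharTwo.of_one_ne_zero_of_two_eq_zero one_ne_zero h2
  have hneg : ∀ x : F, -x = x := fun x => CharTwo.neg_eq x
  have hos : orderOf s = orderOf σ := by
    rw [← orderOf_injective a.act a.act_injective s, hs]
    exact orderOf_injective (fieldHom2 F) fieldHom2_injective σ
  have hs1 : s ≠ 1 := fun e => by rw [← hos, e, orderOf_one] at hσ; exact Nat.not_prime_one hσ
  have hinj := a.inc_injective hZ
  have hord2 : ∀ {x : PSL 2 F}, x * x = 1 → x ≠ 1 → orderOf (a.inc x) = 2 := fun {x} h h1 => by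
    refine orderOf_eq_prime (by rw [← map_pow, pow_two, h, map_one]) fun e => h1 ?_
    exact hinj (e.trans (map_one _).symm)
  have hUU : ∀ x : F, eU x * eU x = 1 := fun x => by rw [eU_mul, CharTwo.add_self_eq_zero, eU_zero]
  have he2 : orderOf (a.inc (eU 1)) = 2 := hord2 (hUU 1) fun h => one_ne_zero (eU_eq_one h)
  have hw2 : orderOf (a.inc (eW F)) = 2 := hord2 eW_mul_eW eW_ne_one
  have hcU : ∀ x, σ x = x → Commute s (a.inc (eU x)) := fun x hx =>
    field_fix a s hs _ (map_one σ) hx (map_zero σ) (map_one σ)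
  have hcW : Commute s (a.inc (eW F)) :=
    field_fix a s hs _ (map_zero σ) (map_one σ) (by rw [map_neg, map_one]) (map_zero σ)
  have hB : a.inc (eU 1) ∈ P.comp s ∧ a.inc (eW F) ∈ P.comp s := by
    by_cases hr : orderOf σ = 2
    · have hfix : ∀ x, σ x = x → x ≠ 0 → a.inc (eU x) * a.inc (eW F) ∈ P.comp s := by
        intro x hx hx0
        refine P.mem_of_orderOf_ne hs1 ?_ ((hcU x hx).mul_right hcW)
        rw [hos, hr]
        intro h
        have h1 := orderOf_dvd_iff_pow_eq_one.1 h.dvd
        rw [← map_mul, ← map_pow, pow_two] at h1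
        have h3 := hinj (h1.trans (map_one _).symm)
        rw [← el_one, eU, eW, el_mul (A := x) (B := 1) (C := 1) (D := 0) _ _
          (by rw [mul_zero, one_mul, zero_sub, hneg]) (by rw [mul_neg, mul_one, mul_zero, zero_add, hneg]) (by ring)
          (by rw [zero_mul, zero_add, one_mul, hneg]) (by ring),
          el_mul (A := x * x + 1) (B := x) (C := x) (D := 1) _ _
          (by rw [mul_one, show x * x + 1 - x * x = 1 by ring]) (by ring) (by ring) (by ring) (by ring),
          el_eq_iff] at h3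
        obtain ⟨k, hk, -, h4, -, -⟩ := h3
        exact hx0 ((mul_eq_zero.1 h4.symm).resolve_left hk)
      have hσσ : ∀ x, σ (σ x) = x := fun x => by
        have h : σ * σ = 1 := by rw [← pow_two, ← hr, pow_orderOf_eq_one]
        exact RingEquiv.congr_fun h x
      obtain ⟨α, hα, hα0, hα1⟩ : ∃ α, σ α = α ∧ α ≠ 0 ∧ α ≠ 1 := by
        by_contra hno
        push Not at hno
        have h01 : ∀ α, σ α = α → α = 0 ∨ α = 1 := fun α hα => or_iff_not_imp_left.2 (hno α hα)
        obtain ⟨x, hx⟩ := h8
        have ht := h01 (x + σ x) (by rw [map_add, hσσ, add_comm])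
        have hn := h01 (x * σ x) (by rw [map_mul, hσσ, mul_comm])
        have key : x * x + (x + σ x) * x + x * σ x = 0 := by
          have : x * x + (x + σ x) * x + x * σ x = 2 * (x * x + x * σ x) := by ring
          rw [this, h2, zero_mul]
        rcases ht with ht | ht <;> rcases hn with hn | hn <;> rw [ht, hn] at key
        · rw [zero_mul, add_zero, add_zero, mul_self_eq_zero] at key
          exact hx (by rw [key]; ring)
        · rw [zero_mul, add_zero] at key
          refine hx ?_
          have h1 : x * x = 1 := by rw [eq_neg_of_add_eq_zero_left key, hneg]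
          have h2' : (x + 1) * (x + 1) = 0 := by
            rw [show (x + 1) * (x + 1) = x * x + 1 + 2 * x by ring, h1, h2, zero_mul, add_zero, CharTwo.add_self_eq_zero]
          rw [eq_neg_of_add_eq_zero_left (mul_self_eq_zero.1 h2'), hneg, one_pow]
        · rw [one_mul, add_zero] at key
          refine hx ?_
          have h1 : x * x = x := by rw [eq_neg_of_add_eq_zero_left key, hneg]
          calc x ^ 4 = (x * x) * (x * x) := by ring
            _ = x := by rw [h1, h1]
        · rw [one_mul] at key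
          refine hx ?_
          have h1 : x ^ 3 = 1 := by
            have : (x + 1) * (x * x + x + 1) = x ^ 3 + 1 + 2 * (x * x + x) := by ring
            rw [key, mul_zero, h2, zero_mul, add_zero] at this
            rw [eq_neg_of_add_eq_zero_left this.symm, hneg]
          calc x ^ 4 = x ^ 3 * x := by ring
            _ = x := by rw [h1, one_mul]
      have hc : σ (1 + α) = 1 + α := by rw [map_add, map_one, hα]
      have hc0 : 1 + α ≠ 0 := fun h => hα1 (by rw [eq_neg_of_add_eq_zero_right h, hneg])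
      have hUc : a.inc (eU (1 + α)) ∈ P.comp s := by
        have h := mul_mem (hfix 1 (map_one σ) one_ne_zero) (inv_mem (hfix α hα hα0))
        rw [_root_.mul_inv_rev, ← mul_assoc, mul_assoc (a.inc (eU 1)), mul_inv_cancel, mul_one] at h
        rwa [← map_inv, show (eU α)⁻¹ = eU α from inv_eq_of_mul_eq_one_right (hUU α), ← map_mul, eU_mul] at h
      have hW : a.inc (eW F) ∈ P.comp s := by
        simpa using mul_mem (inv_mem hUc) (hfix _ hc hc0)
      exact ⟨by simpa using mul_mem (hfix 1 (map_one σ) one_ne_zero) (inv_mem hW), hW⟩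
    · exact ⟨P.mem_of_orderOf_ne hs1 (by rw [he2, hos]; exact Ne.symm hr) (hcU 1 (map_one σ)),
        P.mem_of_orderOf_ne hs1 (by rw [hw2, hos]; exact Ne.symm hr) hcW⟩
  obtain ⟨he, hw⟩ := hB
  have he1 : a.inc (eU 1) ≠ 1 := fun e => by rw [e, orderOf_one] at he2; omega
  have hcomp : P.comp (a.inc (eU 1)) = P.comp s := P.eq_of_mem hs1 he1 he
  have hU : ∀ x, a.inc (eU x) ∈ P.comp s := by
    intro x
    by_contra hx
    have hcx : Commute (a.inc (eU 1)) (a.inc (eU x)) :=
      (show Commute (eU (1 : F)) (eU x) from by show _ * _ = _ * _; rw [eU_mul, eU_mul, add_comm]).map a.inc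
    have hinv := P.inverts_dd he2 hcx (hcomp.symm ▸ hx)
      (P.mem_dd.2 ⟨(hcU 1 (map_one σ)), hcomp.symm ▸ P.mem s⟩)
    -- `s²` is inner, so `σ` has order 2 and `x` is fixed
    have h2 : a.act s * MulAut.conj (eU x) * a.act s = MulAut.conj (eU x) := by
      have := congrArg a.act hinv
      rw [map_mul, map_mul, map_inv, map_inv, a.act_inc] at this
      calc a.act s * MulAut.conj (eU x) * a.act s
          = a.act s * (MulAut.conj (eU x) * a.act s * (MulAut.conj (eU x))⁻¹) * MulAut.conj (eU x) := by group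
        _ = MulAut.conj (eU x) := by rw [this]; group
    have hconj : a.act s * MulAut.conj (eU x) * (a.act s)⁻¹ = MulAut.conj (a.act s (eU x)) := by
      ext y; simp [MulAut.conj_apply]
    have hsσ : a.act s (eU x) = eU (σ x) := by
      rw [hs, eU, semilin_one_el]
      simp only [eU, map_one, map_zero]
    have h3 : MulAut.conj (eU (σ x)) * (a.act s * a.act s) = MulAut.conj (eU x) := by
      calc MulAut.conj (eU (σ x)) * (a.act s * a.act s)
          = a.act s * MulAut.conj (eU x) * (a.act s)⁻¹ * (a.act s * a.act s) := by rw [hconj, hsσ]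
        _ = a.act s * MulAut.conj (eU x) * a.act s := by group
        _ = _ := h2
    have h4 : fieldHom2 F (σ * σ) = MulAut.conj (eU (σ x) * eU x) := by
      rw [map_mul (fieldHom2 F), show fieldHom2 F σ = a.act s from hs.symm, map_mul MulAut.conj, ← h3,
        ← mul_assoc (MulAut.conj (eU (σ x))), ← map_mul MulAut.conj, hUU, map_one, one_mul]
    obtain ⟨t, ht⟩ := proj_surjective (eU (σ x) * eU x)
    rw [← ht, conj_eq_semilin] at h4
    have h5 : σ * σ = 1 := ((mkAut_eq_iff le_rfl fun _ => ⟨rfl, rfl⟩).1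
      (show mkAut (1 : GL (Fin 2) F) (σ * σ) false = mkAut (SpecialLinearGroup.toGL t) (RingEquiv.refl F) false by
        rw [mkAut_false, mkAut_false]; exact h4)).1
    rw [h5, map_one] at h4
    have hx' : σ x = x := by
      have h6 : MulAut.conj (eU (σ x) * eU x) = 1 := by rw [← ht, conj_eq_semilin, ← h4]
      have h7 : eU (σ x) * eU x = 1 := by
        refine mem_bot.1 (hZ ▸ mem_center_iff.2 fun y => ?_)
        exact (mul_inv_eq_iff_eq_mul.1 (DFunLike.congr_fun h6 y)).symm
      rw [eU_mul] at h7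
      rw [eq_neg_of_add_eq_zero_left (eU_eq_one h7), hneg]
    have hos2 : orderOf σ = 2 :=
      (Nat.prime_dvd_prime_iff_eq hσ Nat.prime_two).1 (orderOf_dvd_of_pow_eq_one (by rw [pow_two]; exact h5))
    by_cases hx0 : x = 0
    · exact hx (by rw [hx0, eU_zero, map_one]; exact one_mem _)
    refine hx ?_
    have h8' : a.inc (eU x) * a.inc (eW F) ∈ P.comp s := by
      refine P.mem_of_orderOf_ne hs1 ?_ ((hcU x hx').mul_right hcW)
      rw [hos, hos2]
      intro h
      have h1 := orderOf_dvd_iff_pow_eq_one.1 h.dvd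
      rw [← map_mul, ← map_pow, pow_two] at h1
      have h3' := hinj (h1.trans (map_one _).symm)
      rw [← el_one, eU, eW, el_mul (A := x) (B := 1) (C := 1) (D := 0) _ _
        (by rw [mul_zero, one_mul, zero_sub, hneg]) (by rw [mul_neg, mul_one, mul_zero, zero_add, hneg]) (by ring)
        (by rw [zero_mul, zero_add, one_mul, hneg]) (by ring),
        el_mul (A := x * x + 1) (B := x) (C := x) (D := 1) _ _
        (by rw [mul_one, show x * x + 1 - x * x = 1 by ring]) (by ring) (by ring) (by ring) (by ring),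
        el_eq_iff] at h3'
      obtain ⟨k, hk, -, h9, -, -⟩ := h3'
      exact hx0 ((mul_eq_zero.1 h9.symm).resolve_left hk)
    simpa using mul_mem h8' (inv_mem hw)
  refine hgen s hs1 ?_
  rintro _ ⟨y, rfl⟩
  have htop := eq_top_of_roots (S := (P.comp s).comap a.inc) (fun x => hU x) fun x => ?_
  · exact (htop ▸ mem_top y : y ∈ (P.comp s).comap a.inc)
  · have h : eW F * eU x * eW F = eL x := by
      rw [eW, eU, el_mul (A := 0) (B := 1) (C := -1) (D := -x) _ _ (by ring) (by ring) (by ring) (by ring) (by ring),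
        el_mul (A := -1) (B := 0) (C := x) (D := -1) _ _ (by ring) (by ring) (by ring) (by ring) (by ring),
        eL, el_eq_iff]
      exact ⟨-1, neg_ne_zero.2 one_ne_zero, by ring, by ring, by rw [neg_one_mul, hneg], by ring⟩
    rw [mem_comap, ← h, map_mul, map_mul]
    exact mul_mem (mul_mem hw (hU x)) hw

theorem odd_field_false (hodd : Odd (Fintype.card F)) (hZ : center (PSL 2 F) = ⊥) (hq : 5 ≤ Fintype.card F)
    (hsep : ∀ x y : PSL 2 F, orderOf x = 2 → orderOf y = 2 → x ≠ y → Commute x y →
      P.comp (a.inc x) ≠ P.comp (a.inc y))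
    (g : G) (h : GL (Fin 2) F) (σ : F ≃+* F) (hg : a.act g = semilin h σ) (hσ1 : σ ≠ 1) : False := by
  classical
  have h2F : (2 : F) ≠ 0 := fun e => by
    have := (even_iff_two_dvd (a := Fintype.card F)).2 ?_
    · exact absurd this (Nat.not_even_iff_odd.2 hodd)
    · have h1 := FiniteField.even_card_iff_char_two.1 (CharP.ringChar_of_prime_eq_zero Nat.prime_two (by exact_mod_cast e))
      omega
  obtain ⟨θ, hθ⟩ := exists_fieldGraph_hom (F := F) (n := 2) le_rfl
  have hθ' : ∀ (m : GL (Fin 2) F) (τ : F ≃+* F), (θ (semilin m τ)).1 = τ := fun m τ => by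
    rw [← mkAut_false, hθ m τ false fun _ => rfl]
  have hθconj : ∀ x : PSL 2 F, (θ (MulAut.conj x)).1 = 1 := fun x => by
    obtain ⟨t, rfl⟩ := proj_surjective x
    rw [conj_eq_semilin, hθ']
    rfl
  have hinj := a.inc_injective hZ
  have hord2 : ∀ {x : PSL 2 F}, x * x = 1 → x ≠ 1 → orderOf x = 2 := fun {x} h h1 =>
    orderOf_eq_prime (by rw [pow_two, h]) h1
  have hord2' : ∀ {x : PSL 2 F}, orderOf x = 2 → orderOf (a.inc x) = 2 := fun {x} h => by
    rw [orderOf_injective a.inc hinj, h]
  have hsep' : ∀ {x y : PSL 2 F}, orderOf x = 2 → orderOf y = 2 → x ≠ y → Commute x y →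
      a.inc y ∉ P.comp (a.inc x) := fun {x y} hx hy hne hc hm => by
    refine hsep x y hx hy hne hc (P.eq_of_mem (fun e => ?_) (fun e => ?_) hm).symm
    · have := hord2' hx; rw [e, orderOf_one] at this; omega
    · have := hord2' hy; rw [e, orderOf_one] at this; omega
  -- the involutions `[[a, b], [b, -a]]` centralising the Weyl element
  have pair : ∀ {α β : F}, α * α + β * β = -1 → ∃ hdet : α * (-α) - β * β = 1,
      orderOf (el α β β (-α) hdet) = 2 ∧ eW F ≠ el α β β (-α) hdet ∧
        Commute (eW F) (el α β β (-α) hdet) := by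
    intro α β h1
    have hdet : α * (-α) - β * β = 1 := by linear_combination -h1
    refine ⟨hdet, hord2 ?_ ?_, ?_, ?_⟩
    · rw [← el_one, el_mul (A := -1) (B := 0) (C := 0) (D := -1) _ _ (by ring) (by linear_combination h1)
        (by ring) (by ring) (by linear_combination h1), el_eq_iff]
      exact ⟨-1, neg_ne_zero.2 one_ne_zero, by ring, by ring, by ring, by ring⟩
    · intro e
      rw [← el_one, el_eq_iff] at e
      obtain ⟨k, hk, e1, -, -, e4⟩ := e
      have : (2 : F) = 0 := by linear_combination e1 + e4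
      exact h2F this
    · intro e
      rw [eW, el_eq_iff] at e
      obtain ⟨k, hk, -, e2, e3, -⟩ := e
      exact (mul_ne_zero h2F hk) (by linear_combination -e2 + e3)
    · show _ * _ = _ * _
      rw [eW, el_mul (A := β) (B := -α) (C := -α) (D := -β) _ _ (by linear_combination hdet) (by ring) (by ring) (by ring) (by ring),
        el_mul (A := -β) (B := α) (C := α) (D := β) _ _ (by linear_combination hdet) (by ring) (by ring) (by ring) (by ring), el_eq_iff]
      exact ⟨-1, neg_ne_zero.2 one_ne_zero, by ring, by ring, by ring, by ring⟩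
  have hW2 : orderOf (eW F) = 2 := hord2 eW_mul_eW eW_ne_one
  -- every field part squares to one
  have hsqσ : ∀ (g : G) (h : GL (Fin 2) F) (σ : F ≃+* F), a.act g = semilin h σ → σ * σ = 1 := by
    intro g h σ hg
    obtain ⟨r, hr, hrdet⟩ : ∃ r : GL (Fin 2) F, (∃ c d : F, (r : Matrix (Fin 2) (Fin 2) F) = !![c, d; -d, c]) ∧
        GeneralLinearGroup.det r = GeneralLinearGroup.det h := by
      set ν : F := ((GeneralLinearGroup.det h : Fˣ) : F)
      obtain ⟨c, d, hcd⟩ : ∃ c d : F, c * c + d * d = ν := by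
        obtain ⟨c, d, hcd⟩ := FiniteField.exists_root_sum_quadratic (f := Polynomial.X ^ 2)
          (g := Polynomial.X ^ 2 - Polynomial.C ν) (Polynomial.degree_X_pow 2)
          (Polynomial.degree_X_pow_sub_C two_pos ν) (Nat.odd_iff.1 hodd)
        exact ⟨c, d, by simp only [Polynomial.eval_pow, Polynomial.eval_X, Polynomial.eval_sub, Polynomial.eval_C] at hcd; linear_combination hcd⟩
      have hdet : (!![c, d; -d, c] : Matrix (Fin 2) (Fin 2) F).det = ν := by
        rw [Matrix.det_fin_two_of]; linear_combination hcd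
      refine ⟨GeneralLinearGroup.mkOfDetNeZero !![c, d; -d, c] (by rw [hdet]; exact Units.ne_zero _), ⟨c, d, rfl⟩, Units.ext ?_⟩
      rw [GeneralLinearGroup.val_det_apply]
      exact hdet
    obtain ⟨s, hs⟩ := a.exists_change (h' := r) hg (by rw [hrdet, mul_inv_cancel]; exact one_mem _)
    obtain ⟨c, d, hr⟩ := hr
    have hfixW : a.act s (eW F) = eW F := by
      rw [hs, eW, el, semilin_proj]
      refine (congrArg (proj 2 F) (Subtype.ext ?_))
      rw [coe_slConjHom]
      have hmap : (!![(0 : F), 1; -1, 0] : Matrix (Fin 2) (Fin 2) F).map σ = !![0, 1; -1, 0] := by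
        ext i j; fin_cases i <;> fin_cases j <;> simp
      rw [coe_sl2, hmap]
      have hcm : (r : Matrix (Fin 2) (Fin 2) F) * !![0, 1; -1, 0] = !![0, 1; -1, 0] * (r : Matrix (Fin 2) (Fin 2) F) := by
        rw [hr]; ext i j; fin_cases i <;> fin_cases j <;> simp [Matrix.mul_apply, Fin.sum_univ_two]
      rw [hcm, mul_assoc, Units.mul_inv, mul_one]
    have hcz : Commute (a.inc (eW F)) s := (a.commute_of_fixed hfixW).symm
    obtain ⟨α, β, hαβ⟩ := CfsgLib.Classical.Dickson.exists_sq_add_sq_eq_neg_one (F := F)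
    obtain ⟨hdet, ho, hne, hc⟩ := pair hαβ
    have hu := hsep' hW2 ho hne hc
    have key : (θ (a.act s)).1 * (θ (a.act s)).1 = 1 := by
      by_cases hsz : s ∈ P.comp (a.inc (eW F))
      · have h1 := P.inverts_dd (hord2' hW2) (hc.map a.inc) hu (P.mem_dd.2 ⟨hcz.symm, hsz⟩)
        have h2 := congrArg (fun x => (θ (a.act x)).1) h1
        simp only [map_mul, map_inv, a.act_inc, Prod.fst_mul, Prod.fst_inv, hθconj, one_mul, inv_one, mul_one] at h2
        exact eq_inv_iff_mul_eq_one.1 h2
      · have h1 := orderOf_dvd_iff_pow_eq_one.1 (P.outside_sq (hord2' hW2) hcz hsz).dvd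
        have h2 := congrArg (fun x => (θ (a.act x)).1) h1
        simpa [pow_two] using h2
    rwa [hs, hθ'] at key
  have hσσ := hsqσ g h σ hg
  have hσ2 : orderOf σ = 2 := orderOf_eq_prime (by rw [pow_two]; exact hσσ) hσ1
  -- `-1` is a square
  obtain ⟨i, hi⟩ : IsSquare (-1 : F) := by
    rw [FiniteField.isSquare_neg_one_iff]
    obtain ⟨p, hp⟩ := CharP.exists F
    obtain ⟨f, hp', hF⟩ := FiniteField.card F p
    haveI := Fact.mk hp'
    obtain ⟨hcard, -⟩ := card_ringAut (F := F) hF f.pos
    have h2f : 2 ∣ (f : ℕ) := hcard ▸ hσ2 ▸ orderOf_dvd_natCard σ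
    obtain ⟨k, hk⟩ := h2f
    rw [hF, hk, pow_mul']
    have ho : Odd (p ^ k) := by
      rw [hF, hk, pow_mul'] at hodd
      exact Nat.Odd.of_mul_left (pow_two (p ^ k) ▸ hodd)
    obtain ⟨j, hj⟩ := ho
    rw [hj, show (2 * j + 1) ^ 2 = 4 * (j * j + j) + 1 by ring]
    omega
  have hii : i * i = -1 := hi.symm
  -- a pure field automorphism
  obtain ⟨s, hs⟩ : ∃ s : G, a.act s = semilin 1 σ := by
    by_cases hsq : GeneralLinearGroup.det h ∈ (powMonoidHom 2 : Fˣ →* Fˣ).range
    · exact a.exists_change hg (by rw [map_one, one_mul]; exact inv_mem hsq)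
    exfalso
    obtain ⟨ν, hν⟩ := IsCyclic.exists_generator (α := Fˣ)
    have hνns : ν ∉ (powMonoidHom 2 : Fˣ →* Fˣ).range := fun hm => hsq (zpowers_le.2 hm (hν _))
    obtain ⟨D, hD⟩ : ∃ D : GL (Fin 2) F, (D : Matrix (Fin 2) (Fin 2) F) = !![(ν : F), 0; 0, 1] :=
      ⟨GeneralLinearGroup.mkOfDetNeZero !![(ν : F), 0; 0, 1]
        (by rw [Matrix.det_fin_two_of]; simp), rfl⟩
    have hDdet : GeneralLinearGroup.det D = ν := Units.ext (by
      rw [GeneralLinearGroup.val_det_apply, hD, Matrix.det_fin_two_of]; ring)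
    obtain ⟨s, hs⟩ := a.exists_change (h' := D) hg (by rw [hDdet]; exact sq_div_of_not_sq hνns hsq)
    have hdz : i * (-i) - 0 * 0 = 1 := by linear_combination -hii
    set z := el i 0 0 (-i) hdz with hzdef
    have hi0 : i ≠ 0 := fun e => by rw [e, mul_zero] at hii; exact one_ne_zero (neg_eq_zero.1 hii.symm)
    have hz2 : orderOf z = 2 := by
      refine hord2 ?_ ?_
      · rw [hzdef, ← el_one, el_mul (A := -1) (B := 0) (C := 0) (D := -1) _ _ (by ring) (by linear_combination hii)
          (by ring) (by ring) (by linear_combination hii), el_eq_iff]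
        exact ⟨-1, neg_ne_zero.2 one_ne_zero, by ring, by ring, by ring, by ring⟩
      · intro e
        rw [hzdef, ← el_one, el_eq_iff] at e
        obtain ⟨k, hk, e1, -, -, e4⟩ := e
        exact h2F (by linear_combination e1 + e4)
    have hzW : z ≠ eW F := fun e => by
      rw [hzdef, eW, el_eq_iff] at e
      obtain ⟨k, hk, e1, -⟩ := e
      exact hi0 ((mul_eq_zero.1 e1.symm).resolve_left hk)
    have hzc : Commute z (eW F) := by
      show _ * _ = _ * _
      rw [hzdef, eW, el_mul (A := 0) (B := i) (C := i) (D := 0) _ _ (by linear_combination -hii) (by ring) (by ring) (by ring) (by ring),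
        el_mul (A := 0) (B := -i) (C := -i) (D := 0) _ _ (by linear_combination -hii) (by ring) (by ring) (by ring) (by ring), el_eq_iff]
      exact ⟨-1, neg_ne_zero.2 one_ne_zero, by ring, by ring, by ring, by ring⟩
    have hfixz : a.act s z = z := by
      rw [hs, hzdef, el, semilin_proj, proj_eq_iff]
      have hσi : σ i = i ∨ σ i = -i := by
        have : σ i * σ i = i * i := by rw [← map_mul, hii, map_neg, map_one]
        exact mul_self_eq_mul_self_iff.1 this
      rw [coe_slConjHom]
      have hcm : (D : Matrix (Fin 2) (Fin 2) F) * (!![i, 0; 0, -i] : Matrix (Fin 2) (Fin 2) F).map σ =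
          (!![i, 0; 0, -i] : Matrix (Fin 2) (Fin 2) F).map σ * (D : Matrix (Fin 2) (Fin 2) F) := by
        rw [hD]; ext k l; fin_cases k <;> fin_cases l <;> simp [Matrix.mul_apply, Fin.sum_univ_two, mul_comm]
      rw [coe_sl2, hcm, mul_assoc, Units.mul_inv, mul_one]
      rcases hσi with hσi | hσi
      · refine ⟨1, one_ne_zero, ?_⟩
        ext k l; fin_cases k <;> fin_cases l <;> simp [hσi]
      · refine ⟨-1, neg_ne_zero.2 one_ne_zero, ?_⟩
        ext k l; fin_cases k <;> fin_cases l <;> simp [hσi]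
    have hcz : Commute (a.inc z) s := (a.commute_of_fixed hfixz).symm
    have hWnot := hsep' hz2 hW2 hzW hzc
    have hscal : ∀ m : GL (Fin 2) F, semilin m (σ * σ) = 1 → ∃ k : F, (m : Matrix (Fin 2) (Fin 2) F) = k • 1 :=
      fun m hm => ((semilin_eq_one_iff le_rfl m _).1 hm).2
    by_cases hsz : s ∈ P.comp (a.inc z)
    · have h1 := P.inverts_dd (hord2' hz2) (hzc.map a.inc) hWnot (P.mem_dd.2 ⟨hcz.symm, hsz⟩)
      have h2 := congrArg a.act h1
      rw [map_mul, map_mul, map_inv, map_inv, a.act_inc, hs] at h2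
      let Wg : GL (Fin 2) F := SpecialLinearGroup.toGL (sl2 0 1 (-1) 0 (by ring))
      have hWg : (Wg : Matrix (Fin 2) (Fin 2) F) = !![0, 1; -1, 0] := rfl
      have hWconj : MulAut.conj (eW F) = semilin Wg (RingEquiv.refl F) := conj_eq_semilin _
      have hWi : (MulAut.conj (eW F))⁻¹ = MulAut.conj (eW F) := by
        rw [← map_inv, inv_eq_of_mul_eq_one_right eW_mul_eW]
      rw [hWi, hWconj] at h2
      have h3 : semilin Wg (RingEquiv.refl F) * semilin D σ * (semilin Wg (RingEquiv.refl F) * semilin D σ) = 1 := by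
        rw [← mul_assoc, h2, inv_mul_cancel]
      rw [semilin_mul, semilin_mul] at h3
      obtain ⟨k, hk⟩ := hscal _ h3
      have h00 := congrFun (congrFun hk 0) 0
      have h11 := congrFun (congrFun hk 1) 1
      simp [hWg, hD, Matrix.mul_apply, Fin.sum_univ_two, coe_glMap] at h00 h11
      have hfix : σ (ν : F) = ν := neg_injective (h00.trans h11.symm)
      refine hσ1 (RingEquiv.ext fun x => ?_)
      by_cases hx : x = 0
      · rw [hx, map_zero, map_zero]
      obtain ⟨n, hn⟩ := mem_zpowers_iff.1 (hν (Units.mk0 x hx))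
      have : x = (ν : F) ^ n := by rw [← Units.val_zpow_eq_zpow_val, hn, Units.val_mk0]
      rw [this, RingAut.one_apply, map_zpow₀, hfix]
    · have h1 := orderOf_dvd_iff_pow_eq_one.1 (P.outside_sq (hord2' hz2) hcz hsz).dvd
      have h2 := congrArg a.act h1
      rw [pow_two, map_mul, hs, map_one, semilin_mul] at h2
      obtain ⟨k, hk⟩ := hscal _ h2
      have h00 := congrFun (congrFun hk 0) 0
      have h11 := congrFun (congrFun hk 1) 1
      simp [hD, Matrix.mul_apply, Fin.sum_univ_two, coe_glMap] at h00 h11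
      have hfix : (ν : F) * σ (ν : F) = 1 := by rw [h00, ← h11]
      have hinv : ∀ x : F, x ≠ 0 → σ x * x = 1 := by
        intro x hx
        obtain ⟨n, hn⟩ := mem_zpowers_iff.1 (hν (Units.mk0 x hx))
        have : x = (ν : F) ^ n := by rw [← Units.val_zpow_eq_zpow_val, hn, Units.val_mk0]
        rw [this, map_zpow₀, ← mul_zpow, mul_comm, hfix, _root_.one_zpow]
      have hν1 : (ν : F) + 1 ≠ 0 := fun e => by
        have h1 : ν ^ 2 = 1 := Units.ext (by
          rw [Units.val_pow_eq_pow_val, eq_neg_of_add_eq_zero_left e, Units.val_one]; ring)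
        have h2 := orderOf_eq_card_of_forall_mem_zpowers hν
        rw [Nat.card_eq_fintype_card, Fintype.card_units] at h2
        have := Nat.le_of_dvd two_pos (orderOf_dvd_of_pow_eq_one h1)
        omega
      have h3 : ν ^ 3 = 1 := Units.ext (by
        have hA := hinv _ hν1
        rw [map_add, map_one] at hA
        rw [Units.val_pow_eq_pow_val, Units.val_one]
        linear_combination ((ν : F) - 1) * ((ν : F) * hA) - ((ν : F) - 1) * ((ν : F) + 1) * hfix)
      have h4 := orderOf_eq_card_of_forall_mem_zpowers hν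
      rw [Nat.card_eq_fintype_card, Fintype.card_units] at h4
      have := Nat.le_of_dvd three_pos (orderOf_dvd_of_pow_eq_one h3)
      omega
  have hso : orderOf s = 2 := by
    rw [← orderOf_injective a.act a.act_injective s, hs,
      show semilin 1 σ = fieldHom2 F σ from rfl, orderOf_injective _ fieldHom2_injective, hσ2]
  have hs1 : s ≠ 1 := fun e => by rw [e, orderOf_one] at hso; omega
  have hroot : ∀ x : F, σ x = x → a.inc (eU x) ∈ P.comp s ∧ a.inc (eL x) ∈ P.comp s := by
    intro x hx
    by_cases hx0 : x = 0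
    · rw [hx0, eU_zero, eL_zero, map_one]; exact ⟨one_mem _, one_mem _⟩
    have h2x : x + x ≠ 0 := by rw [← two_mul]; exact mul_ne_zero h2F hx0
    refine ⟨P.mem_of_orderOf_ne hs1 ?_ (field_fix a s hs _ (map_one σ) hx (map_zero σ) (map_one σ)),
      P.mem_of_orderOf_ne hs1 ?_ (field_fix a s hs _ (map_one σ) (map_zero σ) hx (map_one σ))⟩
    · rw [hso, orderOf_injective a.inc hinj]
      intro h
      have h1 := orderOf_dvd_iff_pow_eq_one.1 h.dvd
      rw [pow_two, eU_mul] at h1
      exact h2x (eU_eq_one h1)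
    · rw [hso, orderOf_injective a.inc hinj]
      intro h
      have h1 := orderOf_dvd_iff_pow_eq_one.1 h.dvd
      rw [pow_two, eL_mul] at h1
      exact h2x (eL_eq_one h1)
  have hWs : a.inc (eW F) ∈ P.comp s := by
    have e : eU (1 : F) * eL (-1) * eU 1 = eW F := by
      have e1 : eU (1 : F) * eL (-1) = el 0 1 (-1) 1 (by ring) :=
        el_mul _ _ _ (by ring) (by ring) (by ring) (by ring)
      rw [e1]
      exact el_mul _ _ _ (by ring) (by ring) (by ring) (by ring)
    rw [← e, map_mul, map_mul]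
    exact mul_mem (mul_mem (hroot 1 (map_one σ)).1 (hroot (-1) (by rw [map_neg, map_one])).2) (hroot 1 (map_one σ)).1
  obtain ⟨p, hp⟩ := CharP.exists F
  haveI : Fact p.Prime := ⟨CharP.char_is_prime F p⟩
  have hσp : ∀ n : ZMod p, σ (ZMod.castHom dvd_rfl F n) = ZMod.castHom dvd_rfl F n := fun n =>
    RingHom.congr_fun (Subsingleton.elim ((σ : F →+* F).comp (ZMod.castHom dvd_rfl F)) (ZMod.castHom dvd_rfl F)) n
  obtain ⟨α, β, hα, hβ, hαβ, hβ0⟩ :
      ∃ α β : F, σ α = α ∧ σ β = β ∧ α * α + β * β = -1 ∧ β ≠ 0 := by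
    obtain ⟨a0, b0, h0⟩ := ZMod.sq_add_sq p (-1)
    have h1 := congrArg (ZMod.castHom dvd_rfl F) h0
    rw [map_add, map_pow, map_pow, map_neg, map_one, pow_two, pow_two] at h1
    by_cases hb : ZMod.castHom dvd_rfl F b0 = 0
    · refine ⟨_, _, hσp b0, hσp a0, by rw [add_comm]; exact h1, fun ha => ?_⟩
      rw [ha, hb, mul_zero, add_zero] at h1
      exact one_ne_zero (neg_eq_zero.1 h1.symm)
    · exact ⟨_, _, hσp a0, hσp b0, h1, hb⟩
  obtain ⟨hdet, ho, hne, hc⟩ := pair hαβ
  have hu : a.inc (el α β β (-α) hdet) ∈ P.comp s := by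
    have e : eU ((α - 1) / β) * eL β * eU ((-α - 1) / β) = el α β β (-α) hdet := by
      have e1 : eU ((α - 1) / β) * eL β = el α ((α - 1) / β) β 1 (by field_simp; ring) :=
        el_mul _ _ _ (by field_simp; ring) (by ring) (by ring) (by ring)
      rw [e1]
      exact el_mul _ _ _ (by ring) (by field_simp; linear_combination -hαβ) (by ring) (by field_simp; ring)
    rw [← e, map_mul, map_mul]
    exact mul_mem (mul_mem (hroot _ (by rw [map_div₀, map_sub, map_one, hα, hβ])).1 (hroot β hβ).2)
      (hroot _ (by rw [map_div₀, map_sub, map_neg, map_one, hα, hβ])).1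
  refine hsep _ _ hW2 ho hne hc ?_
  have h1 := hord2' hW2
  have h2 := hord2' ho
  rw [P.eq_of_mem hs1 (fun e => by rw [e, orderOf_one] at h1; omega) hWs,
    P.eq_of_mem hs1 (fun e => by rw [e, orderOf_one] at h2; omega) hu]

/-- No field automorphism occurs. -/
theorem psl_field_trivial (h4 : Fintype.card F ≠ 4) (hq : 4 ≤ Fintype.card F) (hZ : center (PSL 2 F) = ⊥)
    (hgen : ∀ g : G, g ≠ 1 → ¬ a.inc.range ≤ P.comp g)
    (hsep : Odd (Fintype.card F) → ∀ x y : PSL 2 F, orderOf x = 2 → orderOf y = 2 → x ≠ y → Commute x y →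
      P.comp (a.inc x) ≠ P.comp (a.inc y))
    (g : G) : ∃ m : GL (Fin 2) F, a.act g = innDiag 2 F m := by
  classical
  obtain ⟨h, σ, hβ | ⟨h3, -⟩⟩ := exists_eq_semilin (n := 2) le_rfl (a.act g)
  swap
  · omega
  by_cases hσ1 : σ = 1
  · subst hσ1; exact ⟨h, hβ⟩
  exfalso
  rcases Nat.even_or_odd (Fintype.card F) with hev | hodd
  · have hchar := FiniteField.even_card_iff_char_two.2 (Nat.even_iff.1 hev)
    haveI : CharP F 2 := hchar ▸ ringChar.charP F
    obtain ⟨c, hc⟩ := FiniteField.isSquare_of_char_two hchar ((GeneralLinearGroup.det h : Fˣ) : F)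
    have hc0 : c ≠ 0 := fun e => (GeneralLinearGroup.det h).ne_zero (by rw [hc, e, mul_zero])
    obtain ⟨s, hs⟩ := a.exists_change (h' := 1) hβ (by
      rw [map_one, one_mul]
      exact inv_mem ⟨Units.mk0 c hc0, Units.ext (by simp [pow_two, hc])⟩)
    haveI : Finite (F ≃+* F) := Finite.of_injective _ (DFunLike.coe_injective (F := F ≃+* F))
    obtain ⟨r, hr, hrd⟩ := Nat.exists_prime_and_dvd (n := orderOf σ) fun e => hσ1 (orderOf_eq_one_iff.1 e)
    set k := orderOf σ / r
    have hpow : a.act (s ^ k) = semilin 1 (σ ^ k) := by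
      rw [map_pow, hs]; exact (map_pow (fieldHom2 F) σ k).symm
    refine P.even_field_false a ?_ CharTwo.two_eq_zero hgen hZ _ _ hpow
      ((orderOf_pow_orderOf_div (orderOf_pos σ).ne' hrd).symm ▸ hr)
    by_contra hall
    push Not at hall
    have h5 : ∀ x : F, x ≠ 0 → x ^ 3 = 1 := fun x hx => by
      have := hall x
      exact mul_right_cancel₀ hx (by rw [one_mul, ← pow_succ]; exact this)
    obtain ⟨ν, hν⟩ := IsCyclic.exists_generator (α := Fˣ)
    have h6 : ν ^ 3 = 1 := Units.ext (by rw [Units.val_pow_eq_pow_val, h5 _ ν.ne_zero, Units.val_one])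
    have h7 := orderOf_eq_card_of_forall_mem_zpowers hν
    rw [Nat.card_eq_fintype_card, Fintype.card_units] at h7
    have := Nat.le_of_dvd three_pos (orderOf_dvd_of_pow_eq_one h6)
    omega
  · exact P.odd_field_false a hodd hZ (by rcases hodd with ⟨k, hk⟩; omega) (hsep hodd) g h σ hβ hσ1

end Pn

end CfsgLib.Partition
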