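import Cfsg.Agent.Lib.Partition.OuterBasic
import Cfsg.Agent.Lib.Partition.Involutions
import Cfsg.Agent.Lib.Known.SuzukiAut
import Cfsg.Agent.Lib.Lie.Suzuki.Borel

/-!
# No outer automorphism of a Suzuki socle

`Pn.suzuki_surjective`: with a partition and no normal component, a group with socle `Sz(q)` is `Sz(q)`.
-/

set_option autoImplicit false

open Subgroup

namespace CfsgLib.Partition

open CfsgLib.Lie.Suzuki CfsgLib.Known.SuzukiMult CfsgLib.Known.SuzukiAut

variable {G : Type*} [Group G] [Finite G] {F : Type} [Field F] [Fintype F] [CharP F 2] {m : ℕ}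

namespace Pn

variable (P : Pn G)

include P in
theorem suzuki_surjective (hF : Fintype.card F = 2 ^ (2 * m + 1)) (hm : 1 ≤ m) (a : Almost G (Cfsg.Sz F m))
    (hgen : ∀ g : G, g ≠ 1 → ¬ a.inc.range ≤ P.comp g) : Function.Surjective a.inc := by
  classical
  haveI : Fact (Nat.Prime 2) := ⟨Nat.prime_two⟩
  haveI : Finite (F ≃+* F) := Finite.of_injective _ (DFunLike.coe_injective (F := F ≃+* F))
  haveI hsimple := CfsgLib.Lie.Suzuki.isSimple (F := F) hF hm
  -- no nontrivial field automorphism is inner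
  set Ψ := (QuotientGroup.mk' (Cfsg.Inn (Cfsg.Sz F m))).comp (faHom (F := F) (m := m))
  have hsurj : Function.Surjective Ψ := by
    intro x
    obtain ⟨φ, rfl⟩ := QuotientGroup.mk'_surjective _ x
    obtain ⟨γ, g, rfl⟩ := exists_inner_field hF hm φ
    refine ⟨γ, ?_⟩
    show (QuotientGroup.mk (fa γ) : Cfsg.Out (Cfsg.Sz F m)) = QuotientGroup.mk (MulAut.conj g * fa γ)
    rw [QuotientGroup.mk_mul,
      (QuotientGroup.eq_one_iff (MulAut.conj g)).2 (show MulAut.conj g ∈ Cfsg.Inn (Cfsg.Sz F m) from ⟨g, rfl⟩), one_mul]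
  have hcard : Nat.card (F ≃+* F) = 2 * m + 1 := (CfsgLib.Known.AutPSL.card_ringAut hF (by omega)).1
  have hinjΨ : Function.Injective Ψ :=
    ((Nat.bijective_iff_surjective_and_card Ψ).2 ⟨hsurj, by rw [hcard, card_out hF hm]⟩).1
  intro g
  obtain ⟨γ, x, hx⟩ := exists_inner_field hF hm (a.act g)
  have hs : a.act ((a.inc x)⁻¹ * g) = fa γ := by rw [map_mul, map_inv, a.act_inc, hx, inv_mul_cancel_left]
  by_cases hγ : γ = 1
  · refine ⟨x, ?_⟩
    subst hγ
    refine (a.eq_inc ?_).symm
    rw [hx, show (fa (1 : F ≃+* F) : MulAut (Cfsg.Sz F m)) = faHom 1 from rfl, map_one, mul_one]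
  exfalso
  generalize (a.inc x)⁻¹ * g = s0 at hs
  obtain ⟨r, hr, hrd⟩ := Nat.exists_prime_and_dvd (n := orderOf γ) fun e => hγ (orderOf_eq_one_iff.1 e)
  set δ := γ ^ (orderOf γ / r)
  set s := s0 ^ (orderOf γ / r)
  have hδo : orderOf δ = r := orderOf_pow_orderOf_div (orderOf_pos γ).ne' hrd
  have hsact : a.act s = fa δ := by
    rw [map_pow, hs]; exact (map_pow (faHom (F := F) (m := m)) γ _).symm
  have hr2 : r ≠ 2 := by
    rintro rfl
    have h := orderOf_dvd_natCard δ
    rw [hδo, hcard] at h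
    omega
  have hfinj : Function.Injective (faHom (F := F) (m := m)) := fun b c e => hinjΨ (by
    show QuotientGroup.mk (faHom b) = QuotientGroup.mk (faHom c); rw [e])
  have hso : orderOf s = r := by
    rw [← orderOf_injective a.act a.act_injective s, hsact, show fa δ = faHom δ from rfl,
      orderOf_injective _ hfinj, hδo]
  have hs1 : s ≠ 1 := fun e => by rw [e, orderOf_one] at hso; exact hr.ne_one hso.symm
  have hZ : center (Cfsg.Sz F m) = ⊥ := by
    rcases (inferInstance : (center (Cfsg.Sz F m)).Normal).eq_bot_or_eq_top with h | h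
    · exact h
    · exfalso
      have hc := mem_center_iff.1 (show tS hF (Units.mk0 1 one_ne_zero) ∈ center (Cfsg.Sz F m) from h ▸ mem_top _)
      have hw := mem_center_iff.1 (show wS hF ∈ center (Cfsg.Sz F m) from h ▸ mem_top _) (uS hF 0 1)
      have := congrArg (fun g => g • pt F m none) hw
      simp only [mul_smul, uS_none, wS_none, uS_zero] at this
      simp at this
  have hinj := a.inc_injective hZ
  have he0 : uS hF 0 1 ≠ 1 := fun e => by
    have := congrArg (fun g : Cfsg.Sz F m => g • pt F m (some ((0 : F), (0 : F)))) e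
    simp only [uS_zero, one_smul] at this
    simp at this
  have hw0 : wS hF ≠ 1 := fun e => by
    have := congrArg (fun g : Cfsg.Sz F m => g • pt F m none) e
    simp only [wS_none, one_smul] at this
    simp at this
  have hee : uS hF 0 1 * uS hF 0 1 = 1 := by
    rw [CfsgLib.Known.SuzukiMult.uS_mul, add_self', map_zero, zero_mul, add_zero, add_self', uS_zero_zero]
  have hord : ∀ {y : Cfsg.Sz F m}, y * y = 1 → y ≠ 1 → orderOf (a.inc y) = 2 := fun {y} h h1 => by
    rw [orderOf_injective a.inc hinj]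
    exact orderOf_eq_prime (by rw [pow_two, h]) h1
  have he2 := hord hee he0
  have hw2 := hord (wS_mul_self hF) hw0
  have hfa : ∀ b c : F, a.act s (uS hF b c) = uS hF (δ b) (δ c) := fun b c => by rw [hsact, fa_uS]
  have hew : fa δ (wS hF) = wS hF := by
    refine Subtype.ext (Subtype.ext (Matrix.ext fun i j => ?_))
    show δ (wM i j) = wM i j
    fin_cases i <;> fin_cases j <;> simp [wM]
  have hse : Commute s (a.inc (uS hF 0 1)) := a.commute_of_fixed (by rw [hfa, map_zero, map_one])
  have he : a.inc (uS hF 0 1) ∈ P.comp s :=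
    P.mem_of_orderOf_ne hs1 (by rw [he2, hso]; exact hr2.symm) hse
  have hw : a.inc (wS hF) ∈ P.comp s :=
    P.mem_of_orderOf_ne hs1 (by rw [hw2, hso]; exact hr2.symm) (a.commute_of_fixed (by rw [hsact, hew]))
  have he1 : a.inc (uS hF 0 1) ≠ 1 := fun e => by rw [e, orderOf_one] at he2; omega
  have hcomp : P.comp (a.inc (uS hF 0 1)) = P.comp s := P.eq_of_mem hs1 he1 he
  have hU : ∀ b c : F, a.inc (uS hF b c) ∈ P.comp s := by
    intro b c
    by_contra hnot
    have hc : Commute (a.inc (uS hF 0 1)) (a.inc (uS hF b c)) := by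
      have h : Commute (uS hF 0 1) (uS hF b c) := by
        show _ * _ = _ * _
        rw [CfsgLib.Known.SuzukiMult.uS_mul, CfsgLib.Known.SuzukiMult.uS_mul]
        simp [add_comm]
      exact h.map a.inc
    have hinv := P.inverts_dd he2 hc (hcomp.symm ▸ hnot) (P.mem_dd.2 ⟨hse, hcomp.symm ▸ P.mem s⟩)
    have h2 := congrArg (fun y => (QuotientGroup.mk (a.act y) : Cfsg.Out (Cfsg.Sz F m))) hinv
    simp only [map_mul, map_inv, a.act_inc, hsact, QuotientGroup.mk_mul, QuotientGroup.mk_inv,
      (QuotientGroup.eq_one_iff (MulAut.conj (uS hF b c))).2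
        (show MulAut.conj (uS hF b c) ∈ Cfsg.Inn (Cfsg.Sz F m) from ⟨_, rfl⟩), one_mul, inv_one, mul_one] at h2
    have h3 : δ = δ⁻¹ := hinjΨ (by
      rw [map_inv]
      exact h2)
    rw [eq_inv_iff_mul_eq_one, ← pow_two] at h3
    have := orderOf_dvd_of_pow_eq_one h3
    rw [hδo] at this
    exact hr2 ((Nat.prime_dvd_prime_iff_eq hr Nat.prime_two).1 this)
  -- the component is normalised by the socle
  have htop : (normalizer (P.comp s : Set G)).comap a.inc = ⊤ := by
    refine eq_top_of_gens hF hm (fun b c => ?_) (fun t => ?_) ?_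
    · exact le_normalizer (hU b c)
    · refine P.mem_normalizer hs1 he1 he ?_
      rw [← map_inv, ← map_mul, ← map_mul, tS_uS, mul_inv_cancel_right]
      exact hU _ _
    · exact le_normalizer hw
  haveI : ((P.comp s).comap a.inc).Normal := ⟨fun y hy z => by
    have hz : a.inc z ∈ normalizer (P.comp s : Set G) := mem_comap.1 (htop.symm ▸ mem_top z)
    rw [mem_comap, map_mul, map_mul, map_inv]
    exact (mem_normalizer_iff.1 hz _).1 hy⟩
  rcases (inferInstance : ((P.comp s).comap a.inc).Normal).eq_bot_or_eq_top with h | h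
  · exact he0 (mem_bot.1 (h ▸ he))
  · refine hgen s hs1 ?_
    rintro _ ⟨y, rfl⟩
    exact mem_comap.1 (h.symm ▸ mem_top y)

end Pn

end CfsgLib.Partition
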