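import Cfsg.Agent.Lib.Partition.Basic
import Cfsg.Agent.Lib.Core.MinNormal
import Cfsg.Agent.S0144

/-!
# The socle of a group with a partition and no normal component

`Pn.exists_simple_normal`: if all `p`-cores are trivial, there is a simple normal subgroup with trivial
centraliser, and it inherits the partition.
-/

set_option autoImplicit false

open Cfsg Subgroup

namespace CfsgLib.Partition

universe u

variable {G : Type u} [Group G]

/-- A non-solvable group has a prime divisor outside any two given primes. -/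
theorem exists_third_prime [Finite G] (hs : ¬ Group.IsSolvable G) {p q : ℕ} (hp : p.Prime) (hq : q.Prime) :
    ∃ g : G, (orderOf g).Prime ∧ orderOf g ≠ p ∧ orderOf g ≠ q := by
  by_contra hc
  push Not at hc
  obtain ⟨a, m, hm, hcard⟩ := Nat.exists_eq_pow_mul_and_not_dvd (n := Nat.card G) Nat.card_pos.ne' p hp.ne_one
  refine hs (Cfsg.Agent.S0144.result p q a m.primeFactorsList.length hp hq ?_)
  rw [← Nat.eq_prime_pow_of_unique_prime_dvd (p := q) (n := m) (fun e => hm (e ▸ dvd_zero p)) fun {d} hd hdm => ?_, hcard]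
  haveI := Fact.mk hd
  obtain ⟨g, hg⟩ := exists_prime_orderOf_dvd_card' (G := G) d (hdm.trans (Dvd.intro_left _ hcard.symm))
  have := hc g (hg.symm ▸ hd) (fun e => hm ((hg.symm.trans e) ▸ hdm))
  exact hg.symm.trans this

namespace Pn

variable [Finite G] (P : Pn G)

/-- Two commuting non-solvable subgroups lie in one component. -/
theorem exists_comp_of_commute {K1 K2 : Subgroup G} (h1 : ¬ Group.IsSolvable K1) (h2 : ¬ Group.IsSolvable K2)
    (hc : ∀ a ∈ K1, ∀ b ∈ K2, Commute a b) : ∃ c : G, c ≠ 1 ∧ K1 ≤ P.comp c ∧ K2 ≤ P.comp c := by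
  have link : ∀ (a : K1) (b : K2), (orderOf a).Prime → (orderOf b).Prime → orderOf a ≠ orderOf b →
      P.comp a.1 = P.comp b.1 := by
    intro a b ha hb hne
    have ha1 : a.1 ≠ 1 := fun e => by
      rw [← orderOf_coe, e, orderOf_one] at ha; exact Nat.not_prime_one ha
    have hb1 : b.1 ≠ 1 := fun e => by
      rw [← orderOf_coe, e, orderOf_one] at hb; exact Nat.not_prime_one hb
    exact (P.eq_of_mem ha1 hb1 (P.mem_of_orderOf_ne ha1 (by rw [orderOf_coe, orderOf_coe]; exact hne.symm)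
      (hc _ a.2 _ b.2))).symm
  obtain ⟨a0, ha0, -, -⟩ := exists_third_prime h1 Nat.prime_two Nat.prime_two
  obtain ⟨b0, hb0, hab, -⟩ := exists_third_prime h2 ha0 ha0
  have e0 := link a0 b0 ha0 hb0 hab.symm
  have hA : ∀ a : K1, (orderOf a).Prime → P.comp a.1 = P.comp a0.1 := by
    intro a ha
    obtain ⟨b, hb, hb1, hb2⟩ := exists_third_prime h2 ha ha0
    exact (link a b ha hb hb1.symm).trans (link a0 b ha0 hb hb2.symm).symm
  have hB : ∀ b : K2, (orderOf b).Prime → P.comp b.1 = P.comp a0.1 := by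
    intro b hb
    obtain ⟨a, ha, hab, -⟩ := exists_third_prime h1 hb hb
    exact (link a b ha hb hab).symm.trans (hA a ha)
  have mem : ∀ (K : Subgroup G), (∀ a : K, (orderOf a).Prime → P.comp a.1 = P.comp a0.1) →
      K ≤ P.comp a0.1 := by
    intro K hK x hx
    by_cases hx1 : x = 1
    · exact hx1 ▸ one_mem _
    obtain ⟨r, hr, hrd⟩ := Nat.exists_prime_and_dvd (n := orderOf x) fun e => hx1 (orderOf_eq_one_iff.1 e)
    have hk : orderOf (x ^ (orderOf x / r)) = r := orderOf_pow_orderOf_div (orderOf_pos x).ne' hrd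
    rw [← hK ⟨_, pow_mem hx (orderOf x / r)⟩ (by rw [← orderOf_coe]; exact hk.symm ▸ hr)]
    rw [P.comp_pow (fun e => by rw [e, orderOf_one] at hk; exact hr.ne_one hk.symm)]
    exact P.mem x
  refine ⟨a0.1, fun e => ?_, mem K1 hA, mem K2 hB⟩
  rw [← orderOf_coe, e, orderOf_one] at ha0
  exact Nat.not_prime_one ha0

include P in
theorem exists_simple_normal [Nontrivial G] (hNC : ∀ g : G, g ≠ 1 → ¬ (P.comp g).Normal)
    (hcore : ∀ p : ℕ, p.Prime → pCore p G = ⊥) :
    ∃ M : Subgroup G, M.Normal ∧ IsSimpleGroup M ∧ ¬ Group.IsSolvable M ∧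
      centralizer (M : Set G) = ⊥ ∧ Nonempty (Pn M) := by
  have hnormal : ∀ M : Subgroup G, M.Normal → M ≠ ⊥ → ∀ g : G, g ≠ 1 → ¬ M ≤ P.comp g :=
    fun M hM hMb g hg h => haveI := hM; hNC g hg (P.normal_of_le hMb hg h)
  have hmins : ∀ M : Subgroup G, M.Normal → M ≠ ⊥ →
      (∀ K : Subgroup G, K.Normal → K ≤ M → K = ⊥ ∨ K = M) → ¬ Group.IsSolvable M := by
    intro M hMn hMb hmin hs
    obtain ⟨p, hp, hpg, -, -⟩ := CfsgLib.Core.isPGroup_of_minimal_normal M hs hMb hmin
    exact hMb (le_bot_iff.1 (hcore p hp ▸ CfsgLib.Core.le_pCore hpg))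
  obtain ⟨M, hMn, hMb, -, hmin⟩ := CfsgLib.Core.exists_minimal_normal_le' (⊤ : Subgroup G) top_ne_bot
  have hMs := hmins M hMn hMb hmin
  have hC : centralizer (M : Set G) = ⊥ := by
    by_contra hC
    obtain ⟨M', hM'n, hM'b, hM'le, hmin'⟩ := CfsgLib.Core.exists_minimal_normal_le' (centralizer (M : Set G)) hC
    obtain ⟨c, hc1, hcM, -⟩ := P.exists_comp_of_commute hMs (hmins M' hM'n hM'b hmin')
      fun a ha b hb => mem_centralizer_iff.1 (hM'le hb) a ha
    exact hnormal M hMn hMb c hc1 hcM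
  refine ⟨M, hMn, ?_, hMs, hC, ⟨P.restrict M (hnormal M hMn hMb)⟩⟩
  haveI : Nontrivial M := M.nontrivial_iff_ne_bot.2 hMb
  obtain ⟨L, hLn, hLb, -, hLmin⟩ := CfsgLib.Core.exists_minimal_normal_le' (⊤ : Subgroup M) top_ne_bot
  by_cases hLtop : L = ⊤
  · exact ⟨fun K hK => (hLmin K hK (hLtop ▸ le_top)).imp_right fun e => e.trans hLtop⟩
  exfalso
  have hLs : ¬ Group.IsSolvable L := by
    intro hs
    obtain ⟨p, hp, hpg, -, -⟩ := CfsgLib.Core.isPGroup_of_minimal_normal L hs hLb hLmin
    have h1 := (map_mono (f := M.subtype) (CfsgLib.Core.le_pCore hpg)).trans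
      (CfsgLib.Core.map_subtype_pCore_le (p := p) M)
    rw [hcore p hp, le_bot_iff, map_eq_bot_iff_of_injective _ M.subtype_injective] at h1
    exact hLb h1
  let Lg : G → Subgroup M := fun g => L.map (MulAut.conjNormal g : MulAut M).toMonoidHom
  have hcomm : ∀ g, Lg g ≠ L → ∀ a ∈ L.map M.subtype, ∀ b ∈ (Lg g).map M.subtype, Commute a b := by
    intro g hne
    haveI : (Lg g).Normal := hLn.map _ (MulAut.conjNormal g : MulAut M).surjective
    have hdis : Disjoint L (Lg g) := by
      rw [disjoint_iff]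
      refine (hLmin (L ⊓ Lg g) inferInstance inf_le_left).resolve_right fun e => hne ?_
      refine (Subgroup.eq_of_le_of_card_ge (inf_eq_left.1 e) ?_).symm
      exact (Nat.card_congr (L.equivMapOfInjective _ (MulAut.conjNormal g : MulAut M).injective).toEquiv).ge
    rintro _ ⟨a, ha, rfl⟩ _ ⟨b, hb, rfl⟩
    exact (commute_of_normal_of_disjoint L (Lg g) hLn inferInstance hdis a b ha hb).map M.subtype
  have hns : ∀ (K : Subgroup M), Nonempty (L ≃* K) → ¬ Group.IsSolvable (K.map M.subtype) := by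
    rintro K ⟨e⟩ hs
    exact hLs (solvable_of_solvable_injective (f := ((e.trans (K.equivMapOfInjective _ M.subtype_injective)).toMonoidHom))
      (MulEquiv.injective _))
  obtain ⟨g0, hg0⟩ : ∃ g, Lg g ≠ L := by
    by_contra hall
    push Not at hall
    have hn : (L.map M.subtype).Normal := ⟨by
      rintro _ ⟨a, ha, rfl⟩ x
      exact ⟨MulAut.conjNormal x a, (hall x).le (mem_map_of_mem _ ha), MulAut.conjNormal_apply x a⟩⟩
    rcases hmin _ hn (map_subtype_le L) with h | h
    · exact hLb ((map_eq_bot_iff_of_injective _ M.subtype_injective).1 h)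
    · exact hLtop (map_injective M.subtype_injective (h.trans (by rw [← MonoidHom.range_eq_map, M.range_subtype])))
  have hiso : ∀ g, Nonempty (L ≃* Lg g) := fun g =>
    ⟨L.equivMapOfInjective _ (MulAut.conjNormal g : MulAut M).injective⟩
  obtain ⟨c, hc1, hcL, -⟩ := P.exists_comp_of_commute (hns L ⟨MulEquiv.refl _⟩) (hns _ (hiso g0)) (hcomm g0 hg0)
  refine hnormal M hMn hMb c hc1 ?_
  have hall : ∀ g, (Lg g).map M.subtype ≤ P.comp c := by
    intro g
    by_cases hg : Lg g = L
    · rw [hg]; exact hcL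
    obtain ⟨d, hd1, hdL, hdg⟩ := P.exists_comp_of_commute (hns L ⟨MulEquiv.refl _⟩) (hns _ (hiso g)) (hcomm g hg)
    obtain ⟨x, hx, hx1⟩ := (bot_or_exists_ne_one (L.map M.subtype)).resolve_left
      fun e => hLb ((map_eq_bot_iff_of_injective _ M.subtype_injective).1 e)
    rwa [P.eq_of_common hc1 hd1 hx1 (hcL hx) (hdL hx)]
  have hle : normalClosure ((L.map M.subtype : Subgroup G) : Set G) ≤ P.comp c := by
    refine (closure_le _).2 fun y hy => ?_
    obtain ⟨a, ha, hay⟩ := Group.mem_conjugatesOfSet_iff.1 hy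
    obtain ⟨g, rfl⟩ := isConj_iff.1 hay
    obtain ⟨a', ha', rfl⟩ := ha
    exact hall g ⟨MulAut.conjNormal g a', mem_map_of_mem _ ha', MulAut.conjNormal_apply g a'⟩
  have hM' : normalClosure ((L.map M.subtype : Subgroup G) : Set G) ≤ M :=
    normalClosure_le_normal (map_subtype_le L)
  rcases hmin _ normalClosure_normal hM' with h | h
  · exact absurd ((map_eq_bot_iff_of_injective _ M.subtype_injective).1
      (le_bot_iff.1 (h ▸ le_normalClosure))) hLb
  · exact h ▸ hle

end Pn

end CfsgLib.Partition
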