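import Cfsg.Agent.Lib.Partition.Fitting
import Cfsg.Agent.Lib.Partition.Socle
import Cfsg.Agent.Lib.Partition.EmbeddedCase
import Cfsg.Agent.Lib.Partition.OuterPSL
import Cfsg.Agent.Lib.Partition.OuterSuzuki
import Cfsg.Agent.Lib.Classical.Dickson.ClassifyPlatonic

/-!
# The classification of the finite groups with a nontrivial partition
-/

set_option autoImplicit false

open Cfsg Subgroup

namespace CfsgLib.Partition

universe u

variable {G : Type u} [Group G] [Finite G]

/-- `PSL(2, q)` is solvable for `q < 4`. -/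
theorem four_le_card {H : Type*} [Group H] (hs : ¬ Group.IsSolvable H) {F : Type} [Field F] [Fintype F]
    (e : H ≃* Matrix.ProjectiveSpecialLinearGroup (Fin 2) F) : 4 ≤ Fintype.card F := by
  by_contra hlt
  haveI : Finite H := Finite.of_equiv _ e.toEquiv.symm
  have hc := CfsgLib.Classical.Two.card_PSL_two (F := F)
  rw [← Nat.card_congr e.toEquiv] at hc
  have h2 : 2 ≤ Fintype.card F := Fintype.one_lt_card
  rcases (show Fintype.card F = 2 ∨ Fintype.card F = 3 by omega) with h | h <;> rw [h] at hc <;> norm_num at hc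
  · exact hs (Cfsg.Agent.S0144.result 2 3 1 1 Nat.prime_two Nat.prime_three (by norm_num; omega))
  · exact hs (Cfsg.Agent.S0144.result 2 3 2 1 Nat.prime_two Nat.prime_three (by norm_num; omega))

theorem Pn.socle_case [Nontrivial G] (P : Pn G) (hNC : ∀ g : G, g ≠ 1 → ¬ (P.comp g).Normal)
    (hcore : ∀ p : ℕ, p.Prime → pCore p G = ⊥) :
    (∃ (F : Type) (_ : Field F) (_ : Fintype F), 4 ≤ Fintype.card F ∧
        Nonempty (G ≃* Matrix.ProjectiveSpecialLinearGroup (Fin 2) F)) ∨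
    (∃ (F : Type) (_ : Field F) (_ : Fintype F), 5 ≤ Fintype.card F ∧ Odd (Fintype.card F) ∧
        Nonempty (G ≃* (GL (Fin 2) F ⧸ Subgroup.center (GL (Fin 2) F)))) ∨
    Cfsg.Lie.IsoSuzuki G := by
  classical
  obtain ⟨M, hMn, hMs, hMns, hC, -⟩ := P.exists_simple_normal hNC hcore
  haveI := hMn
  haveI := hMs
  haveI : Nontrivial M := IsSimpleGroup.toNontrivial
  have hMb : M ≠ ⊥ := M.nontrivial_iff_ne_bot.1 inferInstance
  have hL : ∀ g : G, g ≠ 1 → ¬ M ≤ P.comp g := fun g hg h => hNC g hg (P.normal_of_le hMb hg h)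
  have hna : ¬ IsMulCommutative M := fun h => hMns (by
    letI : CommGroup M := { (inferInstance : Group M) with mul_comm := h.is_comm.comm }
    infer_instance)
  have h2 : 2 ∣ Nat.card M := by
    rw [← even_iff_two_dvd, ← Nat.not_odd_iff_even]
    exact fun h => hMns (CfsgLib.OddLocal.FTFinal.odd_order_solvable h)
  have hgen : ∀ {H : Type} [Group H] (e : M ≃* H), ∀ g : G, g ≠ 1 →
      ¬ (Almost.ofNormal M hC e).inc.range ≤ P.comp g := fun e g hg => by
    rw [Almost.ofNormal_range]; exact hL g hg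
  have finish : ∀ {F : Type} [Field F] [Fintype F] (e : M ≃* Matrix.ProjectiveSpecialLinearGroup (Fin 2) F),
      4 ≤ Fintype.card F →
      (∀ g : G, ∃ m : GL (Fin 2) F, (Almost.ofNormal M hC e).act g = CfsgLib.Known.AutPSL.innDiag 2 F m) →
      (∃ (F : Type) (_ : Field F) (_ : Fintype F), 4 ≤ Fintype.card F ∧
          Nonempty (G ≃* Matrix.ProjectiveSpecialLinearGroup (Fin 2) F)) ∨
      (∃ (F : Type) (_ : Field F) (_ : Fintype F), 5 ≤ Fintype.card F ∧ Odd (Fintype.card F) ∧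
          Nonempty (G ≃* (GL (Fin 2) F ⧸ Subgroup.center (GL (Fin 2) F)))) := by
    intro F _ _ e hq h
    haveI := e.symm.isSimpleGroup
    have hZ := CfsgLib.CIT.simple_center_eq_bot (G := Matrix.ProjectiveSpecialLinearGroup (Fin 2) F)
      fun h' => hna ⟨⟨fun x y => e.injective (by rw [map_mul, map_mul]; exact h'.is_comm.comm _ _)⟩⟩
    rcases (Almost.ofNormal M hC e).psl_or_pgl hZ h with ⟨hsu, hin⟩ | ⟨hodd, hiso⟩
    · exact Or.inl ⟨F, inferInstance, inferInstance, hq, ⟨(MulEquiv.ofBijective _ ⟨hin, hsu⟩).symm⟩⟩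
    · refine Or.inr ⟨F, inferInstance, inferInstance, ?_, hodd, hiso⟩
      rcases hodd with ⟨k, hk⟩
      omega
  have psl : ∀ {F : Type} [Field F] [Fintype F] (e : M ≃* Matrix.ProjectiveSpecialLinearGroup (Fin 2) F),
      4 ≤ Fintype.card F → Fintype.card F ≠ 4 →
      (Odd (Fintype.card F) → ∀ x y : M, orderOf x = 2 → orderOf y = 2 → x ≠ y → Commute x y →
        P.comp (x : G) ≠ P.comp (y : G)) →
      ∀ g : G, ∃ m : GL (Fin 2) F, (Almost.ofNormal M hC e).act g = CfsgLib.Known.AutPSL.innDiag 2 F m := by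
    intro F _ _ e hq h4 hsep
    haveI := e.symm.isSimpleGroup
    have hZ := CfsgLib.CIT.simple_center_eq_bot (G := Matrix.ProjectiveSpecialLinearGroup (Fin 2) F)
      fun h' => hna ⟨⟨fun x y => e.injective (by rw [map_mul, map_mul]; exact h'.is_comm.comm _ _)⟩⟩
    refine P.psl_field_trivial _ h4 hq hZ (hgen e) fun ho x y hx hy hne hc => ?_
    exact hsep ho (e.symm x) (e.symm y) (by rw [MulEquiv.orderOf_eq, hx]) (by rw [MulEquiv.orderOf_eq, hy])
      (fun h => hne (e.symm.injective h)) (hc.map e.symm.toMonoidHom)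
  rcases (P.restrict M hL).simple_case hna h2 with
    ⟨⟨F, iF, iT, hodd, ⟨e⟩⟩, hsep⟩ | ⟨K, iK, iT, ⟨n, hn, hK⟩, ⟨e⟩⟩ | ⟨F, iF, iT, m, hm, hF, ⟨e⟩⟩
  · have hq := four_le_card hMns e
    refine (finish e hq (psl e hq ?_ fun _ x y hx hy hne hc heq => ?_)).imp_right Or.inl
    · intro h4; rw [h4] at hodd; exact absurd hodd (by decide)
    · exact hsep x y hx hy hne hc (by
        show (P.comp (x : G)).subgroupOf M = (P.comp (y : G)).subgroupOf M
        rw [heq])
  · have hbot : Subgroup.center (Matrix.SpecialLinearGroup (Fin 2) K) = ⊥ := by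
      rw [← Subgroup.card_eq_one, CfsgLib.Classical.card_center_SL, Fintype.card_fin, hK]
      refine (Nat.Prime.coprime_iff_not_dvd Nat.prime_two).2 fun hd => ?_
      obtain ⟨j, rfl⟩ : ∃ j, n = j + 1 := ⟨n - 1, by omega⟩
      rw [pow_succ] at hd
      have : 0 < 2 ^ j := Nat.two_pow_pos j
      omega
    let e' : M ≃* Matrix.ProjectiveSpecialLinearGroup (Fin 2) K :=
      e.trans ((QuotientGroup.quotientMulEquivOfEq hbot).trans QuotientGroup.quotientBot).symm
    have hq : 4 ≤ Fintype.card K := four_le_card hMns e'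
    by_cases h4 : Fintype.card K = 4
    · -- `PSL(2, 4) ≅ PSL(2, 5)`
      haveI : Fact (Nat.Prime 5) := ⟨by norm_num⟩
      obtain ⟨f1⟩ := CfsgLib.Classical.Dickson.psl_four_five_equiv (K := K) (Or.inl h4)
      obtain ⟨f2⟩ := CfsgLib.Classical.Dickson.psl_four_five_equiv (K := ZMod 5) (Or.inr (ZMod.card 5))
      refine (finish ((e'.trans f1.symm).trans f2) (by rw [ZMod.card]; norm_num) fun g => ?_).imp_right Or.inl
      obtain ⟨h, σ, hβ | ⟨h3, -⟩⟩ :=
        CfsgLib.Known.AutPSL.exists_eq_semilin (n := 2) le_rfl ((Almost.ofNormal M hC ((e'.trans f1.symm).trans f2)).act g)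
      · refine ⟨h, ?_⟩
        have : σ = RingEquiv.refl (ZMod 5) := RingEquiv.ext fun x =>
          RingHom.congr_fun (Subsingleton.elim (σ : ZMod 5 →+* ZMod 5) (RingHom.id _)) x
        subst this
        exact hβ
      · omega
    · refine (finish e' hq (psl e' hq h4 fun ho => ?_)).imp_right Or.inl
      exfalso
      rw [hK] at ho
      exact absurd (Nat.even_pow.2 ⟨even_two, by omega⟩) (Nat.not_even_iff_odd.2 ho)
  · haveI := CfsgLib.Lie.Suzuki.charTwo_of_card hF
    let e' : M ≃* Cfsg.Sz F m := e.trans (CfsgLib.Lie.Suzuki.equivLie hm hF).symm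
    haveI := CfsgLib.Lie.Suzuki.isSimple (F := F) hF hm
    have hZ : center (Cfsg.Sz F m) = ⊥ := CfsgLib.CIT.simple_center_eq_bot
      fun h' => hna ⟨⟨fun x y => e'.injective (by rw [map_mul, map_mul]; exact h'.is_comm.comm _ _)⟩⟩
    have hsur := P.suzuki_surjective hF hm _ (hgen e')
    exact Or.inr (Or.inr ⟨F, iF, iT, m, hm, hF,
      ⟨(MulEquiv.ofBijective _ ⟨(Almost.ofNormal M hC e').inc_injective hZ, hsur⟩).symm.trans
        (CfsgLib.Lie.Suzuki.equivLie hm hF)⟩⟩)

/-- A finite group with a nontrivial partition. -/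
theorem classify (S : Set (Subgroup G)) (hS2 : ∃ H ∈ S, ∃ K ∈ S, H ≠ K)
    (hS1 : ∀ H ∈ S, H ≠ ⊥) (hpart : ∀ g : G, g ≠ 1 → ∃! H : Subgroup G, H ∈ S ∧ g ∈ H) :
    Nonempty (G ≃* Equiv.Perm (Fin 4)) ∨
    (∃ p : ℕ, p.Prime ∧ Subgroup.closure {g : G | g ^ p ≠ 1} ≠ ⊤) ∨
    (∃ H : Subgroup G, Cfsg.IsFrobeniusComplement H) ∨
    (∃ (F : Type) (_ : Field F) (_ : Fintype F), 4 ≤ Fintype.card F ∧
        Nonempty (G ≃* Matrix.ProjectiveSpecialLinearGroup (Fin 2) F)) ∨
    (∃ (F : Type) (_ : Field F) (_ : Fintype F), 5 ≤ Fintype.card F ∧ Odd (Fintype.card F) ∧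
        Nonempty (G ≃* (GL (Fin 2) F ⧸ Subgroup.center (GL (Fin 2) F)))) ∨
    Cfsg.Lie.IsoSuzuki G := by
  obtain ⟨P⟩ := Pn.ofFamily S hS2 hS1 hpart
  haveI : Nontrivial G := by
    obtain ⟨H, hH, -⟩ := hS2
    obtain ⟨x, -, hx⟩ := (H.bot_or_exists_ne_one).resolve_left (hS1 H hH)
    exact ⟨⟨x, 1, hx⟩⟩
  by_cases hNC : ∀ g : G, g ≠ 1 → ¬ (P.comp g).Normal
  · by_cases hcore : ∀ p : ℕ, p.Prime → pCore p G = ⊥
    · rcases P.socle_case hNC hcore with h | h | h
      · exact Or.inr (Or.inr (Or.inr (Or.inl h)))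
      · exact Or.inr (Or.inr (Or.inr (Or.inr (Or.inl h))))
      · exact Or.inr (Or.inr (Or.inr (Or.inr (Or.inr h))))
    · push Not at hcore
      obtain ⟨p, hp, hN⟩ := hcore
      rcases P.pCore_case hNC hp hN with h | h | h
      · exact Or.inl h
      · exact Or.inr (Or.inl h)
      · exact Or.inr (Or.inr (Or.inl h))
  · push Not at hNC
    obtain ⟨g0, h1, hn⟩ := hNC
    haveI := hn
    rcases P.normal_component h1 with h | h
    · exact Or.inr (Or.inl h)
    · exact Or.inr (Or.inr (Or.inl h))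

end CfsgLib.Partition
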