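import Mathlib

/-!
# Groups with a conjugation invariant partition

* `Pn G`: `comp g` is the component containing `g`; components are proper and any two of them meet trivially.
* `Pn.ofFamily`: every nontrivial partition can be refined to a conjugation invariant one.
* `Pn.eq_or_prime`: commuting elements in different components have the same prime order.
-/

set_option autoImplicit false

namespace CfsgLib.Partition

open Subgroup

universe u

variable {G : Type u} [Group G]

/-- A conjugation invariant nontrivial partition, given by the component of each element. -/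
structure Pn (G : Type u) [Group G] where
  /-- The component of `g`. -/
  comp : G → Subgroup G
  mem : ∀ g, g ∈ comp g
  ne_top : ∀ {g}, g ≠ 1 → comp g ≠ ⊤
  eq_of_mem : ∀ {g h}, g ≠ 1 → h ≠ 1 → h ∈ comp g → comp h = comp g
  conj_mem : ∀ x {g h}, h ∈ comp g → x * h * x⁻¹ ∈ comp (x * g * x⁻¹)

/-- A nontrivial partition gives a conjugation invariant one. -/
theorem Pn.ofFamily (S : Set (Subgroup G)) (hS2 : ∃ H ∈ S, ∃ K ∈ S, H ≠ K) (hS1 : ∀ H ∈ S, H ≠ ⊥)
    (hpart : ∀ g : G, g ≠ 1 → ∃! H : Subgroup G, H ∈ S ∧ g ∈ H) : Nonempty (Pn G) := by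
  classical
  let memb : G → Subgroup G := fun g => if h : g = 1 then ⊥ else (hpart g h).exists.choose
  have memb1 : ∀ {g : G}, g ≠ 1 → memb g ∈ S ∧ g ∈ memb g := fun {g} hg => by
    simp only [memb, dif_neg hg]
    exact (hpart g hg).exists.choose_spec
  have uniq : ∀ {g h : G}, g ≠ 1 → h ≠ 1 → h ∈ memb g → memb h = memb g := fun {g h} hg hh hm =>
    (hpart h hh).unique (memb1 hh) ⟨(memb1 hg).1, hm⟩
  have mem0 : ∀ g : G, g ∈ memb g := fun g => by
    by_cases hg : g = 1
    · exact hg ▸ one_mem _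
    · exact (memb1 hg).2
  refine ⟨⟨fun g => ⨅ x : G, (memb (x * g * x⁻¹)).comap (MulAut.conj x).toMonoidHom, fun g => ?_,
    fun {g} hg h => ?_, fun {g h} hg hh hm => ?_, fun x g h hm => ?_⟩⟩
  · simp only [mem_iInf, mem_comap]
    intro x
    simpa using mem0 (x * g * x⁻¹)
  · have htop : memb g = ⊤ := by
      refine top_le_iff.1 fun y _ => ?_
      have hy : y ∈ ⨅ x : G, (memb (x * g * x⁻¹)).comap (MulAut.conj x).toMonoidHom := h.symm ▸ mem_top y
      simp only [mem_iInf, mem_comap] at hy
      simpa using hy 1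
    obtain ⟨H, hH, K, hK, hne⟩ := hS2
    have key : ∀ M ∈ S, M = memb g := fun M hM => by
      obtain ⟨m, hm, hm1⟩ := M.bot_or_exists_ne_one.resolve_left (hS1 M hM)
      exact (hpart m hm1).unique ⟨hM, hm⟩ ⟨(memb1 hg).1, htop.symm ▸ mem_top m⟩
    exact hne ((key H hH).trans (key K hK).symm)
  · simp only [mem_iInf, mem_comap] at hm
    refine iInf_congr fun x => ?_
    congr 1
    refine uniq (fun e => hg ?_) (fun e => hh ?_) (by simpa using hm x)
    · simpa [mul_inv_eq_one] using e
    · simpa [mul_inv_eq_one] using e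
  · simp only [mem_iInf, mem_comap] at hm ⊢
    intro y
    have := hm (y * x)
    simp only [MulEquiv.coe_toMonoidHom, MulAut.conj_apply] at this ⊢
    simpa [mul_assoc] using this

namespace Pn

variable (P : Pn G)

theorem comp_pow {g : G} {k : ℕ} (h : g ^ k ≠ 1) : P.comp (g ^ k) = P.comp g :=
  P.eq_of_mem (fun e => h (by rw [e, one_pow])) h (pow_mem (P.mem g) k)

theorem comp_inv (g : G) : P.comp g⁻¹ = P.comp g := by
  by_cases hg : g = 1
  · rw [hg, inv_one]
  · exact P.eq_of_mem hg (inv_ne_one.2 hg) (inv_mem (P.mem g))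

/-- Two components with a common nontrivial element are equal. -/
theorem eq_of_common {g h a : G} (hg : g ≠ 1) (hh : h ≠ 1) (ha : a ≠ 1) (h1 : a ∈ P.comp g)
    (h2 : a ∈ P.comp h) : P.comp g = P.comp h :=
  (P.eq_of_mem hg ha h1).symm.trans (P.eq_of_mem hh ha h2)

/-- Conjugation by `x` fixes a component as soon as it keeps one nontrivial element in it. -/
theorem conj_mem_self {g a x : G} (hg : g ≠ 1) (ha : a ≠ 1) (hag : a ∈ P.comp g)
    (hxa : x * a * x⁻¹ ∈ P.comp g) {h : G} (hh : h ∈ P.comp g) : x * h * x⁻¹ ∈ P.comp g := by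
  have e1 : P.comp (x * a * x⁻¹) = P.comp g := P.eq_of_mem hg (by simpa using ha) hxa
  rw [← e1]
  exact P.conj_mem x ((P.eq_of_mem hg ha hag).symm ▸ hh)

theorem mem_normalizer [Finite G] {g a x : G} (hg : g ≠ 1) (ha : a ≠ 1) (hag : a ∈ P.comp g)
    (hxa : x * a * x⁻¹ ∈ P.comp g) : x ∈ normalizer (P.comp g : Set G) := by
  refine mem_normalizer_iff.2 fun h => ⟨fun hh => P.conj_mem_self hg ha hag hxa hh, fun hh => ?_⟩
  have hinj : Function.Injective fun h : P.comp g => (⟨x * h.1 * x⁻¹, P.conj_mem_self hg ha hag hxa h.2⟩ : P.comp g) :=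
    fun u v e => Subtype.ext (by simpa using congrArg Subtype.val e)
  obtain ⟨⟨k, hk⟩, e⟩ := Finite.surjective_of_injective hinj ⟨x * h * x⁻¹, hh⟩
  have : k = h := by simpa using congrArg Subtype.val e
  exact this ▸ hk

/-- An element commuting with a nontrivial element of a component normalises it. -/
theorem mem_normalizer_of_commute [Finite G] {g a x : G} (hg : g ≠ 1) (ha : a ≠ 1) (hag : a ∈ P.comp g)
    (hc : Commute x a) : x ∈ normalizer (P.comp g : Set G) :=
  P.mem_normalizer hg ha hag (by rw [hc.eq, mul_inv_cancel_right]; exact hag)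

/-- Commuting elements in different components have the same prime order. -/
theorem eq_or_prime [Finite G] {g h : G} (hg : g ≠ 1) (hh : h ≠ 1) (hc : Commute g h) :
    P.comp g = P.comp h ∨ ∃ p : ℕ, p.Prime ∧ orderOf g = p ∧ orderOf h = p := by
  refine or_iff_not_imp_left.2 fun hne => ?_
  have key : ∀ {a b : G}, a ≠ 1 → b ≠ 1 → Commute a b → P.comp a ≠ P.comp b →
      orderOf b ∣ orderOf a := by
    intro a b ha hb hab hne'
    by_contra hd
    have hbn : b ^ orderOf a ≠ 1 := fun e => hd (orderOf_dvd_of_pow_eq_one e)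
    have hpow : (a * b) ^ orderOf a = b ^ orderOf a := by rw [hab.mul_pow, pow_orderOf_eq_one, one_mul]
    have hab1 : a * b ≠ 1 := fun e => hne' (by rw [eq_inv_of_mul_eq_one_left e, P.comp_inv])
    have e1 : P.comp (a * b) = P.comp b := by
      have h1 := P.comp_pow (g := a * b) (k := orderOf a) (by rw [hpow]; exact hbn)
      rw [hpow, P.comp_pow hbn] at h1
      exact h1.symm
    refine hne' (P.eq_of_mem hb ha ?_)
    have : a * b * b⁻¹ ∈ P.comp b := mul_mem (e1 ▸ P.mem (a * b)) (inv_mem (P.mem b))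
    simpa using this
  obtain ⟨p, hp, hpd⟩ := Nat.exists_prime_and_dvd (fun e => hg (orderOf_eq_one_iff.1 e))
  have hgh : orderOf g = orderOf h :=
    Nat.dvd_antisymm (key hh hg hc.symm (Ne.symm hne)) (key hg hh hc hne)
  refine ⟨p, hp, ?_⟩
  have hgp : orderOf g = p := by
    by_contra hgp
    have hlt : p < orderOf g := lt_of_le_of_ne (Nat.le_of_dvd (orderOf_pos g) hpd) (Ne.symm hgp)
    have hgp1 : g ^ p ≠ 1 := pow_ne_one_of_lt_orderOf hp.ne_zero hlt
    have h2 := key hgp1 hh (hc.pow_left p) (by rw [P.comp_pow hgp1]; exact hne)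
    rw [orderOf_pow_of_dvd hp.ne_zero hpd, ← hgh] at h2
    exact absurd (Nat.le_of_dvd (Nat.div_pos hlt.le hp.pos) h2)
      (not_le.2 (Nat.div_lt_self (orderOf_pos g) hp.one_lt))
  exact ⟨hgp, hgh ▸ hgp⟩

/-- A centralising element outside the component has the same prime order. -/
theorem out_order [Finite G] {g h : G} (hg : g ≠ 1) (hc : Commute g h) (hh : h ∉ P.comp g) :
    (orderOf g).Prime ∧ orderOf h = orderOf g := by
  have hh1 : h ≠ 1 := fun e => hh (e ▸ one_mem _)
  rcases P.eq_or_prime hg hh1 hc with e | ⟨p, hp, e1, e2⟩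
  · exact absurd (e ▸ P.mem h) hh
  · exact ⟨e1.symm ▸ hp, e2.trans e1.symm⟩

/-- An element of non-prime order has its centraliser in its component. -/
theorem cent_le [Finite G] {g h : G} (hg : g ≠ 1) (hp : ¬ (orderOf g).Prime) (hc : Commute g h) :
    h ∈ P.comp g := by
  by_contra hh
  exact hp (P.out_order hg hc hh).1

/-- Commuting elements of different orders lie in one component. -/
theorem mem_of_orderOf_ne [Finite G] {g h : G} (hg : g ≠ 1) (hne : orderOf h ≠ orderOf g) (hc : Commute g h) :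
    h ∈ P.comp g := by
  by_contra hh
  exact hne (P.out_order hg hc hh).2

/-- The partition induced on a subgroup inside no component. -/
def restrict (L : Subgroup G) (hL : ∀ g : G, g ≠ 1 → ¬ L ≤ P.comp g) : Pn L where
  comp l := (P.comp l).subgroupOf L
  mem l := mem_subgroupOf.2 (P.mem l)
  ne_top {l} hl h := hL l (fun e => hl (Subtype.ext e)) (subgroupOf_eq_top.1 h)
  eq_of_mem {g h} hg hh hm := by
    rw [P.eq_of_mem (fun e => hg (Subtype.ext e)) (fun e => hh (Subtype.ext e)) (mem_subgroupOf.1 hm)]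
  conj_mem x {g h} hm := mem_subgroupOf.2 (P.conj_mem (x : G) (mem_subgroupOf.1 hm))

theorem restrict_comp (L : Subgroup G) (hL : ∀ g : G, g ≠ 1 → ¬ L ≤ P.comp g) (l m : L) :
    m ∈ (P.restrict L hL).comp l ↔ (m : G) ∈ P.comp (l : G) := mem_subgroupOf

/-- A normal subgroup inside a component makes that component normal. -/
theorem normal_of_le [Finite G] {N : Subgroup G} [N.Normal] (hN : N ≠ ⊥) {g : G} (hg : g ≠ 1)
    (h : N ≤ P.comp g) : (P.comp g).Normal := by
  obtain ⟨a, ha, ha1⟩ := N.bot_or_exists_ne_one.resolve_left hN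
  exact ⟨fun y hy x => P.conj_mem_self hg ha1 (h ha) (h ((inferInstance : N.Normal).conj_mem a ha x)) hy⟩

end Pn

end CfsgLib.Partition
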