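import Cfsg.Agent.Lib.Core.MinNormal
import Cfsg.Agent.Lib.OddLocal.CNSolvable
import Cfsg.Agent.Lib.OddLocal.Final.OddOrder
import Cfsg.Agent.Lib.LocalEvenB.BaerSuzuki

/-!
# Tools for groups with a partition

* `frobenius_of_kernel`: a normal subgroup containing the centralisers of its nontrivial elements.
* `hh`: the Hall–Higman averaging trick.
* `PLocal.mem_pCore`: if no `p`-element centralises or normalises a nontrivial `p'`-subgroup, then
  elements of order `p` lie in `O_p`.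
-/

set_option autoImplicit false

open Cfsg Subgroup

namespace CfsgLib.Partition

variable {G : Type*} [Group G]

theorem exists_orderOf_prime_ne [Finite G] {p : ℕ} (h : ¬ IsPGroup p G) :
    ∃ g : G, ∃ q : ℕ, q.Prime ∧ q ≠ p ∧ orderOf g = q := by
  by_contra hc
  push Not at hc
  refine h (IsPGroup.of_card (n := (Nat.card G).primeFactorsList.length) ?_)
  refine Nat.eq_prime_pow_of_unique_prime_dvd Nat.card_pos.ne' fun {d} hd hdd => ?_
  haveI := Fact.mk hd
  obtain ⟨g, hg⟩ := exists_prime_orderOf_dvd_card' (G := G) d hdd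
  by_contra hne
  exact hc g d hd hne hg

theorem exists_pow_orderOf_eq [Finite G] {g : G} {p : ℕ} (h : p ∣ orderOf g) :
    ∃ k : ℕ, orderOf (g ^ k) = p :=
  ⟨orderOf g / p, orderOf_pow_orderOf_div (orderOf_pos g).ne' h⟩

/-- A `p`-group centralises a nontrivial element of each normal subgroup of order divisible by `p`. -/
theorem exists_commute_of_dvd [Finite G] {p : ℕ} [Fact p.Prime] {P V : Subgroup G} [hV : V.Normal]
    (hP : IsPGroup p P) (hd : p ∣ Nat.card V) : ∃ v ∈ V, v ≠ 1 ∧ ∀ x ∈ P, Commute x v := by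
  letI act : MulAction P V :=
    { smul := fun x v => ⟨x.1 * v.1 * x.1⁻¹, hV.conj_mem v.1 v.2 x.1⟩
      one_smul := fun v => Subtype.ext (by show (1 : G) * v.1 * 1⁻¹ = v.1; group)
      mul_smul := fun x y v => Subtype.ext (by
        show ((x * y : P) : G) * v.1 * ((x * y : P) : G)⁻¹ = x.1 * (y.1 * v.1 * y.1⁻¹) * x.1⁻¹
        rw [Subgroup.coe_mul]; group) }
  have h1 : (1 : V) ∈ MulAction.fixedPoints P V := fun x =>
    Subtype.ext (by show x.1 * 1 * x.1⁻¹ = 1; group)
  obtain ⟨b, hb, hb1⟩ := hP.exists_fixed_point_of_prime_dvd_card_of_fixed_point V hd h1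
  refine ⟨b.1, b.2, fun e => hb1 (Subtype.ext e.symm), fun x hx => ?_⟩
  have := congrArg Subtype.val (hb ⟨x, hx⟩)
  exact mul_inv_eq_iff_eq_mul.1 this

/-- An element of prime power order centralises a nontrivial element of each normal subgroup of order
divisible by that prime. -/
theorem exists_commute_of_pow_eq_one [Finite G] {p k : ℕ} [Fact p.Prime] {x : G} (hx : x ^ p ^ k = 1)
    (V : Subgroup G) [V.Normal] (hd : p ∣ Nat.card V) : ∃ v ∈ V, v ≠ 1 ∧ Commute x v := by
  have hP : IsPGroup p (zpowers x) := by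
    obtain ⟨m, -, hm⟩ := (Nat.dvd_prime_pow (Fact.out (p := p.Prime))).1 (orderOf_dvd_of_pow_eq_one hx)
    exact IsPGroup.of_card (n := m) (by rw [Nat.card_zpowers, hm])
  obtain ⟨v, hv, hv1, hc⟩ := exists_commute_of_dvd hP hd
  exact ⟨v, hv, hv1, hc x (mem_zpowers x)⟩

/-- A proper normal subgroup containing the centralisers of its nontrivial elements is a Frobenius
kernel. -/
theorem frobenius_of_kernel [Finite G] {A : Subgroup G} [A.Normal] (h0 : A ≠ ⊥) (h1 : A ≠ ⊤)
    (hc : ∀ a ∈ A, a ≠ 1 → ∀ y, Commute a y → y ∈ A) :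
    ∃ H : Subgroup G, IsFrobeniusComplement H := by
  have hco : (Nat.card A).Coprime A.index := by
    refine Nat.coprime_of_dvd fun p hp hpA hpi => ?_
    haveI := Fact.mk hp
    obtain ⟨P⟩ := (inferInstance : Nonempty (Sylow p G))
    obtain ⟨v, hv, hv1, hPv⟩ := exists_commute_of_dvd (V := A) P.isPGroup' hpA
    have hle : (P : Subgroup G) ≤ A := fun x hx => hc v hv hv1 x (hPv x hx).symm
    exact P.not_dvd_index (hpi.trans (index_dvd_of_le hle))
  obtain ⟨E, hE⟩ := exists_right_complement'_of_coprime hco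
  refine ⟨E, CfsgLib.OddLocal.CN.isFrobeniusComplement_of_fpf hE ?_ ?_ fun e he he1 => ?_⟩
  · exact fun e => h1 (isComplement'_bot_right.1 (e ▸ hE))
  · exact fun e => h0 (isComplement'_top_right.1 (e ▸ hE))
  · rw [eq_bot_iff]
    rintro a ⟨ha, hae⟩
    by_contra ha1
    have heA : e ∈ A := hc a ha (fun e' => ha1 (e' ▸ one_mem _)) e
      (mem_centralizer_singleton_iff.1 hae)
    exact he1 (mem_bot.1 (hE.disjoint.le_bot ⟨heA, he⟩))

/-- The Hall–Higman averaging trick. -/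
theorem hh {Q V : Type*} [Group Q] [Finite Q] [CommGroup V] (φ : Q →* MulAut V) (K : Subgroup Q)
    {p : ℕ} (hp : p.Prime) {w : Q} (hw : w ∈ normalizer (K : Set Q))
    (hord : ∀ x ∈ K, (x * w) ^ p = 1)
    (hnorm : ∀ x ∈ K, ∀ v, ∏ j ∈ Finset.range p, φ ((x * w) ^ j) v = 1)
    (hfix : ∀ v, (∀ x ∈ K, φ x v = v) → v = 1) (hfree : ∀ v : V, v ^ Nat.card K = 1 → v = 1)
    (v : V) : v = 1 := by
  classical
  haveI := Fintype.ofFinite K
  have hmem : ∀ x ∈ K, ∀ j : ℕ, (x * w) ^ j * (w ^ j)⁻¹ ∈ K := fun x hx j => by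
    induction j with
    | zero => simp
    | succ j ih =>
      have : (x * w) ^ (j + 1) * (w ^ (j + 1))⁻¹ =
          (x * w) ^ j * (w ^ j)⁻¹ * (w ^ j * x * (w ^ j)⁻¹) := by
        rw [pow_succ, pow_succ]; group
      rw [this]
      exact mul_mem ih ((mem_normalizer_iff.1 (pow_mem hw j) x).1 hx)
  have hsum : ∀ j ∈ Finset.range p, j ≠ 0 → ∏ x : K, φ ((x.1 * w) ^ j) v = 1 := by
    intro j hj hj0
    rw [Finset.mem_range] at hj
    let f : K → K := fun x => ⟨_, hmem x.1 x.2 j⟩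
    have hf : Function.Bijective f := by
      refine Finite.injective_iff_bijective.1 fun x y e => ?_
      have e' : (x.1 * w) ^ j = (y.1 * w) ^ j := mul_right_cancel (congrArg Subtype.val e)
      have hcop : Nat.Coprime j p :=
        (hp.coprime_iff_not_dvd.2 (Nat.not_dvd_of_pos_of_lt (Nat.pos_of_ne_zero hj0) hj)).symm
      obtain ⟨c, -, hc⟩ := Nat.exists_mul_mod_eq_one_of_coprime hcop hp.one_lt
      have hx' : ((x.1 * w) ^ j) ^ c = x.1 * w := by
        rw [← pow_mul, pow_eq_pow_mod (j * c) (hord x.1 x.2), hc, pow_one]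
      have hy' : ((y.1 * w) ^ j) ^ c = y.1 * w := by
        rw [← pow_mul, pow_eq_pow_mod (j * c) (hord y.1 y.2), hc, pow_one]
      exact Subtype.ext (mul_right_cancel (hx'.symm.trans ((congrArg (· ^ c) e').trans hy')))
    have e1 : ∀ x : K, φ ((x.1 * w) ^ j) v = φ (f x).1 (φ (w ^ j) v) := fun x => by
      rw [← MulAut.mul_apply, ← map_mul]
      simp [f]
    rw [Finset.prod_congr rfl fun x _ => e1 x, hf.prod_comp fun k : K => φ k.1 (φ (w ^ j) v)]
    refine hfix _ fun y hy => ?_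
    rw [map_prod]
    refine (Finset.prod_congr rfl fun x _ => ?_).trans
      ((Equiv.mulLeft (⟨y, hy⟩ : K)).bijective.prod_comp fun k : K => φ k.1 (φ (w ^ j) v))
    rw [← MulAut.mul_apply, ← map_mul]
    rfl
  refine hfree v ?_
  have h1 : ∏ j ∈ Finset.range p, ∏ x : K, φ ((x.1 * w) ^ j) v = 1 := by
    rw [Finset.prod_comm]
    exact Finset.prod_eq_one fun x _ => hnorm x.1 x.2 v
  rw [Finset.prod_eq_single_of_mem 0 (Finset.mem_range.2 hp.pos) hsum] at h1
  simpa [Nat.card_eq_fintype_card] using h1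

theorem mul_pow_eq_prod {V : Type*} [CommGroup V] (ι : V →* G) (φ : G →* MulAut V)
    (h : ∀ g v, ι (φ g v) = g * ι v * g⁻¹) (v : V) (g : G) :
    ∀ n : ℕ, (ι v * g) ^ n = ι (∏ j ∈ Finset.range n, φ (g ^ j) v) * g ^ n := by
  intro n
  induction n with
  | zero => simp
  | succ n ih =>
    rw [pow_succ, ih, Finset.prod_range_succ, map_mul, h, pow_succ]
    group

/-- No `p`-element centralises or normalises a nontrivial `p'`-subgroup. -/
structure PLocal (p : ℕ) (Q : Type*) [Group Q] : Prop where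
  noPS : ∀ u : Q, p ∣ orderOf u → ∃ k : ℕ, orderOf u = p ^ k
  noNorm : ∀ w : Q, orderOf w = p → ∀ K : Subgroup Q, K ≠ ⊥ → ¬ p ∣ Nat.card K →
    w ∉ normalizer (K : Set Q)

theorem PLocal.mem_pCore {Q V : Type*} [Group Q] [Finite Q] [CommGroup V] [Nontrivial V] {p : ℕ}
    (hp : p.Prime) (hQ : PLocal p Q) (φ : Q →* MulAut V)
    (hf : ∀ q : Q, (orderOf q).Prime → orderOf q ≠ p → ∀ v, φ q v = v → v = 1)
    {w : Q} (hw : orderOf w = p) : w ∈ pCore p Q := by
  classical
  haveI := Fact.mk hp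
  by_contra hwR
  rcases hp.eq_two_or_odd' with rfl | hodd
  · obtain ⟨h, h1, hho, hinv⟩ :=
      CfsgLib.LocalEvenB.exists_odd_inverted (v := w) (by rw [← pow_two, ← hw, pow_orderOf_eq_one]) hwR
    refine hQ.noNorm w hw (zpowers h) (zpowers_ne_bot.2 h1) (by
      rw [Nat.card_zpowers]; exact Nat.two_dvd_ne_zero.2 (Nat.odd_iff.1 hho)) ?_
    have key : ∀ y, y ∈ zpowers h → w * y * w⁻¹ ∈ zpowers h := by
      intro y hy
      obtain ⟨n, rfl⟩ := mem_zpowers_iff.1 hy
      rw [← conj_zpow, hinv]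
      exact zpow_mem (inv_mem (mem_zpowers h)) n
    refine mem_normalizer_iff.2 fun y => ⟨key y, fun hy => ?_⟩
    have hwi : w⁻¹ = w := inv_eq_of_mul_eq_one_right (by rw [← pow_two, ← hw, pow_orderOf_eq_one])
    have := key _ hy
    rwa [show w * (w * y * w⁻¹) * w⁻¹ = (w * w) * y * (w * w)⁻¹ from by group,
      show w * w = 1 from by rw [← pow_two, ← hw, pow_orderOf_eq_one], one_mul, inv_one, mul_one] at this
  rcases Nat.even_or_odd (Nat.card Q) with heven | hQodd
  · obtain ⟨t, ht⟩ := exists_prime_orderOf_dvd_card' (G := Q) 2 (even_iff_two_dvd.1 heven)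
    have hp2 : p ≠ 2 := fun e => absurd (e ▸ hodd) (by decide)
    have htt : t * t = 1 := by rw [← pow_two, ← ht, pow_orderOf_eq_one]
    have hti : ∀ v, φ t v = v⁻¹ := fun v => by
      have h2 : φ t (φ t v) = v := by rw [← MulAut.mul_apply, ← map_mul, htt, map_one]; rfl
      have := hf t (ht.symm ▸ Nat.prime_two) (by rw [ht]; exact hp2.symm) (v * φ t v)
        (by rw [map_mul, h2, mul_comm])
      exact eq_inv_of_mul_eq_one_right this
    have hker : φ.ker ≤ pCore p Q := by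
      refine CfsgLib.Core.le_pCore (by_contra fun hnp => ?_)
      obtain ⟨g, q, hq, hqp, hgq⟩ := exists_orderOf_prime_ne hnp
      obtain ⟨v, hv⟩ := exists_ne (1 : V)
      refine hv (hf g.1 (by rw [orderOf_coe, hgq]; exact hq) (by rw [orderOf_coe, hgq]; exact hqp) v ?_)
      rw [MonoidHom.mem_ker.1 g.2]; rfl
    have hcomm : t * w * t⁻¹ * w⁻¹ ∈ pCore p Q := by
      refine hker (MonoidHom.mem_ker.2 (MulEquiv.ext fun v => ?_))
      have ht' : t⁻¹ = t := inv_eq_of_mul_eq_one_right htt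
      rw [ht']
      simp only [map_mul, MulAut.mul_apply, hti, map_inv, inv_inv, MulAut.one_apply]
      rw [← MulAut.mul_apply, mul_inv_cancel, MulAut.one_apply]
    let σ0 : pCore p Q → pCore p Q := fun r => ⟨(t * r.1 * t⁻¹) * (t * w * t⁻¹ * w⁻¹),
      mul_mem ((CfsgLib.Core.normal_pCore p Q).conj_mem r.1 r.2 t) hcomm⟩
    have hinvol : Function.Involutive σ0 := fun r => Subtype.ext (by
      show (t * ((t * r.1 * t⁻¹) * (t * w * t⁻¹ * w⁻¹)) * t⁻¹) * (t * w * t⁻¹ * w⁻¹) = r.1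
      calc _ = (t * t) * r.1 * w * (t * t)⁻¹ * w⁻¹ := by group
        _ = r.1 := by rw [htt]; group)
    haveI : Fintype (pCore p Q) := Fintype.ofFinite _
    have hcard : ¬ 2 ∣ Fintype.card (pCore p Q) := by
      obtain ⟨n, hn⟩ := IsPGroup.iff_card.1 (CfsgLib.Core.isPGroup_pCore p Q)
      rw [← Nat.card_eq_fintype_card, hn]
      exact Nat.two_dvd_ne_zero.2 (Nat.odd_iff.1 hodd.pow)
    obtain ⟨r, hr⟩ := Equiv.Perm.exists_fixed_point_of_prime (p := 2) (n := 1) hcard
      (σ := hinvol.toPerm) (by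
        ext r
        simp [pow_two, hinvol r])
    have hfixr : t * (r.1 * w) * t⁻¹ = r.1 * w := by
      have := congrArg Subtype.val hr
      change (t * r.1 * t⁻¹) * (t * w * t⁻¹ * w⁻¹) = r.1 at this
      calc t * (r.1 * w) * t⁻¹ = (t * r.1 * t⁻¹) * (t * w * t⁻¹ * w⁻¹) * w := by group
        _ = r.1 * w := by rw [this]
    by_cases hq1 : r.1 * w = 1
    · exact hwR ((eq_inv_of_mul_eq_one_right hq1) ▸ inv_mem r.2)
    have hqp : (r.1 * w) ^ p ∈ pCore p Q := by
      rw [← QuotientGroup.eq_one_iff, QuotientGroup.mk_pow, QuotientGroup.mk_mul,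
        (QuotientGroup.eq_one_iff r.1).2 r.2, one_mul, ← QuotientGroup.mk_pow, ← hw,
        pow_orderOf_eq_one]
      rfl
    obtain ⟨k, hk⟩ := CfsgLib.Core.isPGroup_pCore p Q ⟨_, hqp⟩
    have hk' : (r.1 * w) ^ p ^ (k + 1) = 1 := by
      rw [pow_succ', pow_mul]
      exact congrArg Subtype.val hk
    obtain ⟨m, -, hm⟩ := (Nat.dvd_prime_pow hp).1 (orderOf_dvd_of_pow_eq_one hk')
    have hm0 : m ≠ 0 := fun e => hq1 (orderOf_eq_one_iff.1 (by rw [hm, e, pow_zero]))
    have hc : Commute t (r.1 * w) := mul_inv_eq_iff_eq_mul.1 hfixr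
    have ho : orderOf (t * (r.1 * w)) = 2 * p ^ m := by
      rw [hc.orderOf_mul_eq_mul_orderOf_of_coprime (by
        rw [ht, hm]; exact Nat.Coprime.pow_right _ ((Nat.coprime_primes Nat.prime_two hp).2 hp2.symm)), ht, hm]
    obtain ⟨l, hl⟩ := hQ.noPS (t * (r.1 * w)) (by rw [ho]; exact (dvd_pow_self p hm0).mul_left 2)
    have h2 : 2 ∣ p ^ l := by rw [← hl, ho]; exact dvd_mul_right 2 _
    exact hp2 ((Nat.prime_dvd_prime_iff_eq Nat.prime_two hp).1 (Nat.prime_two.dvd_of_dvd_pow h2)).symm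
  · have hwp : w ^ p = 1 := hw ▸ pow_orderOf_eq_one w
    haveI : Group.IsSolvable Q := CfsgLib.OddLocal.FTFinal.odd_order_solvable hQodd
    set R := pCore p Q with hR
    haveI : Nontrivial (Q ⧸ R) := ⟨⟨(w : Q ⧸ R), 1, fun e => hwR ((QuotientGroup.eq_one_iff w).1 e)⟩⟩
    obtain ⟨r, hr, hne⟩ := CfsgLib.Core.exists_pCore_ne_bot (G := Q ⧸ R)
    have hrp : r ≠ p := fun e => hne (by subst e; exact CfsgLib.Core.pCore_quotient_pCore r Q)
    haveI := Fact.mk hr
    set X := (pCore r (Q ⧸ R)).comap (QuotientGroup.mk' R) with hX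
    obtain ⟨P⟩ := (inferInstance : Nonempty (Sylow r X))
    have hwX : w ∉ X := fun h => by
      obtain ⟨k, hk⟩ := CfsgLib.Core.isPGroup_pCore r (Q ⧸ R) ⟨_, h⟩
      have hk' : (w : Q ⧸ R) ^ r ^ k = 1 := congrArg Subtype.val hk
      have hp' : (w : Q ⧸ R) ^ p = 1 := by rw [← QuotientGroup.mk_pow, hwp]; rfl
      have h1 := pow_gcd_eq_one.2 ⟨hp', hk'⟩
      rw [Nat.Coprime.pow_right k ((Nat.coprime_primes hp hr).2 hrp.symm), pow_one] at h1
      exact hwR ((QuotientGroup.eq_one_iff w).1 h1)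
    have hrX : r ∣ Nat.card X := by
      obtain ⟨n, hn⟩ := IsPGroup.iff_card.1 (CfsgLib.Core.isPGroup_pCore r (Q ⧸ R))
      have hn0 : n ≠ 0 := fun e => hne (card_eq_one.1 (by rw [hn, e, pow_zero]))
      have hmap : X.map (QuotientGroup.mk' R) = pCore r (Q ⧸ R) :=
        map_comap_eq_self_of_surjective (QuotientGroup.mk'_surjective R) _
      exact ((dvd_pow_self r hn0).trans (hn ▸ dvd_rfl)).trans (hmap ▸ card_map_dvd X _)
    have hK : (P : Subgroup X).map X.subtype ≠ ⊥ := fun e =>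
      P.ne_bot_of_dvd_card hrX ((map_eq_bot_iff_of_injective _ X.subtype_injective).1 e)
    have hKp : ¬ p ∣ Nat.card ((P : Subgroup X).map X.subtype) := by
      obtain ⟨n, hn⟩ := IsPGroup.iff_card.1 (P.isPGroup'.map X.subtype)
      rw [hn]
      exact fun h => hrp ((Nat.prime_dvd_prime_iff_eq hp hr).1 (hp.dvd_of_dvd_pow h)).symm
    have hwtop : w ∈ normalizer (((P : Subgroup X).map X.subtype) : Set Q) ⊔ X := by
      rw [Sylow.normalizer_sup_eq_top P]; exact mem_top w
    obtain ⟨n, hn, x, hx, rfl⟩ := mem_sup_of_normal_right.1 hwtop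
    have hpn : p ∣ orderOf n := by
      by_contra hnp
      have e : ((n * x : Q) : Q ⧸ X) = n := by
        rw [QuotientGroup.mk_mul, (QuotientGroup.eq_one_iff x).2 hx, mul_one]
      have h1 : (n : Q ⧸ X) ^ p = 1 := by rw [← e, ← QuotientGroup.mk_pow, hwp]; rfl
      have h2 : (n : Q ⧸ X) ^ orderOf n = 1 := by rw [← QuotientGroup.mk_pow, pow_orderOf_eq_one]; rfl
      have h3 := pow_gcd_eq_one.2 ⟨h1, h2⟩
      rw [(hp.coprime_iff_not_dvd.2 hnp), pow_one, ← e] at h3
      exact hwX ((QuotientGroup.eq_one_iff _).1 h3)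
    obtain ⟨k, hk⟩ := exists_pow_orderOf_eq hpn
    exact hQ.noNorm _ hk _ hK hKp (pow_mem hn k)

end CfsgLib.Partition
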