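import Cfsg.Agent.Lib.Partition.NormalComponent

/-!
# A partition without normal component and a nontrivial `p`-core

`Pn.pCore_case`: the group is `S₄`, or has a proper Hughes subgroup, or is a Frobenius group.
-/

set_option autoImplicit false

open Cfsg Subgroup

namespace CfsgLib.Partition

variable {G : Type*} [Group G]

/-- An automorphism group of a group of order 4 has order dividing 6. -/
theorem card_mulAut_dvd {V : Type*} [Group V] [Finite V] (hV : Nat.card V = 4) :
    Nat.card (MulAut V) ∣ 6 := by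
  classical
  haveI := Fintype.ofFinite V
  let f : MulAut V →* Equiv.Perm {v : V // v ≠ 1} :=
    { toFun := fun σ => σ.toEquiv.subtypeEquiv fun a => (not_congr (MulEquiv.map_eq_one_iff σ)).symm
      map_one' := Equiv.ext fun _ => rfl
      map_mul' := fun _ _ => Equiv.ext fun _ => rfl }
  have hf : Function.Injective f := fun σ τ h => MulEquiv.ext fun v => by
    by_cases hv : v = 1
    · simp [hv]
    · exact congrArg Subtype.val (congrArg (fun e : Equiv.Perm {v : V // v ≠ 1} => e ⟨v, hv⟩) h)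
  have h := Subgroup.card_dvd_of_injective f hf
  have hc : Nat.card {v : V // v ≠ 1} = 3 := by
    rw [Nat.card_eq_fintype_card, Fintype.card_subtype_compl, Fintype.card_subtype_eq,
      ← Nat.card_eq_fintype_card, hV]
  rwa [Nat.card_perm, hc] at h

namespace Pn

variable [Finite G] (P : Pn G)

include P in
theorem pCore_case (hNC : ∀ g : G, g ≠ 1 → ¬ (P.comp g).Normal) {p : ℕ} (hp : p.Prime)
    (hN : pCore p G ≠ ⊥) :
    Nonempty (G ≃* Equiv.Perm (Fin 4)) ∨
    (∃ p : ℕ, p.Prime ∧ Subgroup.closure {g : G | g ^ p ≠ 1} ≠ ⊤) ∨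
    (∃ H : Subgroup G, Cfsg.IsFrobeniusComplement H) := by
  classical
  haveI := Fact.mk hp
  set N := pCore p G with hNdef
  have hNp : IsPGroup p N := CfsgLib.Core.isPGroup_pCore p G
  haveI : Group.IsNilpotent N := hNp.isNilpotent
  haveI hNn : N.Normal := CfsgLib.Core.normal_pCore p G
  let Z : Subgroup G :=
    { carrier := {a | a ∈ N ∧ (∀ b ∈ N, Commute a b) ∧ a ^ p = 1}
      one_mem' := ⟨one_mem _, fun b _ => Commute.one_left b, one_pow p⟩
      mul_mem' := fun {a b} ha hb => ⟨mul_mem ha.1 hb.1, fun c hc => (ha.2.1 c hc).mul_left (hb.2.1 c hc),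
        by rw [(ha.2.1 b hb.1).mul_pow, ha.2.2, hb.2.2, one_mul]⟩
      inv_mem' := fun {a} ha => ⟨inv_mem ha.1, fun c hc => (ha.2.1 c hc).inv_left,
        by rw [inv_pow, ha.2.2, inv_one]⟩ }
  haveI hZn : Z.Normal := ⟨fun a ha g => ⟨hNn.conj_mem a ha.1 g,
    fun c hc => by
      have h := ha.2.1 (g⁻¹ * c * g) (by simpa using hNn.conj_mem c hc g⁻¹)
      have := h.map (MulAut.conj g).toMonoidHom
      simpa [mul_assoc] using this,
    by rw [conj_pow, ha.2.2, mul_one, mul_inv_cancel]⟩⟩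
  letI : CommGroup Z := { (inferInstance : Group Z) with
    mul_comm := fun a b => Subtype.ext (a.2.2.1 b.1 b.2.1) }
  obtain ⟨z0, hz0, hoz0⟩ : ∃ z ∈ Z, orderOf z = p := by
    obtain ⟨n, hn⟩ := IsPGroup.iff_card.1 hNp
    have hn0 : n ≠ 0 := fun e => hN (card_eq_one.1 (by rw [hn, e, pow_zero]))
    obtain ⟨z, hz, hoz⟩ := exists_central_orderOf_eq (G := N) (p := p) (hn ▸ dvd_pow_self p hn0)
    refine ⟨z.1, ⟨z.2, fun b hb => congrArg Subtype.val ((mem_center_iff.1 hz ⟨b, hb⟩).symm), ?_⟩,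
      by rw [orderOf_coe, hoz]⟩
    rw [← hoz, ← orderOf_coe, pow_orderOf_eq_one]
  have hz01 : z0 ≠ 1 := fun e => by rw [e, orderOf_one] at hoz0; exact hp.ne_one hoz0.symm
  have hpZ : p ∣ Nat.card Z := hoz0 ▸ orderOf_dvd_natCard _ hz0
  have hZnot : ∀ g : G, g ≠ 1 → ¬ Z ≤ P.comp g := fun g hg h =>
    hNC g hg (P.normal_of_le (fun e => hz01 (mem_bot.1 (e ▸ hz0))) hg h)
  have hconj : ∀ (g : G) (v : Z), ((MulAut.conjNormal g v : Z) : G) = g * v.1 * g⁻¹ := fun g v =>
    MulAut.conjNormal_apply g v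
  -- no element of prime order `≠ p` has a mate in its component centralising `Z`
  have star : ∀ y d : G, (orderOf y).Prime → orderOf y ≠ p → d ∈ P.comp y → d ≠ 1 →
      (∀ z ∈ Z, Commute d z) → False := by
    intro y d hs hsp hd hd1 hdZ
    have hy1 : y ≠ 1 := fun e => by rw [e, orderOf_one] at hs; exact Nat.not_prime_one hs
    refine hZnot y hy1 fun v0 hv0 => ?_
    set v : Z := ⟨v0, hv0⟩ with hv
    let W := (P.comp y).subgroupOf Z
    have hB : v0 ∈ normalizer (P.comp y : Set G) :=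
      P.mem_normalizer_of_commute hy1 hd1 hd (hdZ v0 hv0).symm
    set u : Z := ∏ i ∈ Finset.range (orderOf y), MulAut.conjNormal (y ^ i) v with hu
    have hfix : MulAut.conjNormal y u = u := by
      have h1 := Finset.prod_range_succ' (fun i => (MulAut.conjNormal (y ^ i) v : Z)) (orderOf y)
      rw [Finset.prod_range_succ, pow_orderOf_eq_one, pow_zero] at h1
      rw [hu, map_prod]
      refine (Finset.prod_congr rfl fun i _ => ?_).trans (mul_right_cancel h1).symm
      rw [← MulAut.mul_apply, ← map_mul, ← pow_succ']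
    have huW : u ∈ W := by
      have hc : Commute y u.1 := mul_inv_eq_iff_eq_mul.1 ((hconj y u).symm.trans (congrArg Subtype.val hfix))
      refine mem_subgroupOf.2 (by_contra fun hnot => hsp ?_)
      have hu1 : u.1 ≠ 1 := fun e => hnot (e ▸ one_mem _)
      rw [← (P.out_order hy1 hc hnot).2]
      exact orderOf_eq_prime u.2.2.2 hu1
    have hdiff : ∀ i : ℕ, MulAut.conjNormal (y ^ i) v * v⁻¹ ∈ W := fun i => by
      rw [mem_subgroupOf, Subgroup.coe_mul, Subgroup.coe_inv, hconj]
      have : y ^ i * v0 * (y ^ i)⁻¹ * v0⁻¹ = y ^ i * (v0 * (y ^ i)⁻¹ * v0⁻¹) := by group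
      rw [show (v : G) = v0 from rfl, this]
      exact mul_mem (pow_mem (P.mem y) i) ((mem_normalizer_iff.1 hB _).1 (inv_mem (pow_mem (P.mem y) i)))
    have hvs : v ^ orderOf y ∈ W := by
      have h := W.prod_mem (t := Finset.range (orderOf y)) fun i _ => hdiff i
      rw [Finset.prod_mul_distrib, Finset.prod_const, Finset.card_range, ← hu, inv_pow] at h
      simpa using inv_mem (mul_mem (inv_mem huW) h)
    obtain ⟨m, hm⟩ := exists_pow_eq_self_of_coprime (x := v) (n := orderOf y) (by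
      refine Nat.Coprime.coprime_dvd_right (orderOf_dvd_of_pow_eq_one (Subtype.ext (?_ : v0 ^ p = 1))) ?_
      · exact hv0.2.2
      · exact (Nat.coprime_primes hs hp).2 hsp)
    exact mem_subgroupOf.1 (hm ▸ pow_mem hvs m : v ∈ W)
  have hexp : ∀ x ∈ N, x ^ p = 1 := fun x hx => by
    by_contra h
    have hx1 : x ≠ 1 := fun e => h (by rw [e, one_pow])
    obtain ⟨k, hk⟩ := hNp ⟨x, hx⟩
    obtain ⟨m, -, hm⟩ := (Nat.dvd_prime_pow hp).1
      (orderOf_dvd_of_pow_eq_one (congrArg Subtype.val hk : x ^ p ^ k = 1))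
    refine hZnot x hx1 fun z hz => P.cent_le hx1 (fun hpr => h ?_) (hz.2.1 x hx).symm
    replace hm : orderOf x = p ^ m := hm
    have hm0 : m ≠ 0 := fun e => hx1 (orderOf_eq_one_iff.1 (by rw [hm, e, pow_zero]))
    have hd : p ∣ orderOf x := by rw [hm]; exact dvd_pow_self p hm0
    exact orderOf_dvd_iff_pow_eq_one.1 ((Nat.prime_dvd_prime_iff_eq hp hpr).1 hd).symm.dvd
  have hfree : ∀ y n : G, (orderOf y).Prime → orderOf y ≠ p → n ∈ N → Commute y n → n = 1 := by
    intro y n hs hsp hn hc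
    by_contra hn1
    have hy1 : y ≠ 1 := fun e => by rw [e, orderOf_one] at hs; exact Nat.not_prime_one hs
    exact star y n hs hsp (P.mem_of_orderOf_ne hy1 (by rw [orderOf_eq_prime (hexp n hn) hn1]; exact hsp.symm) hc)
      hn1 fun z hz => (hz.2.1 n hn).symm
  have hfree' : ∀ y n : G, ∀ s : ℕ, s.Prime → s ≠ p → s ∣ orderOf y → n ∈ N → Commute y n → n = 1 := by
    intro y n s hs hsp hsd hn hc
    obtain ⟨k, hk⟩ := exists_pow_orderOf_eq hsd
    exact hfree _ n (hk.symm ▸ hs) (hk.symm ▸ hsp) hn (hc.pow_left k)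
  have hnoPS : ∀ x : G, p ∣ orderOf x → ∃ k, orderOf x = p ^ k := by
    intro x hd
    refine ⟨_, Nat.eq_prime_pow_of_unique_prime_dvd (orderOf_pos x).ne' fun {s} hs hsd => ?_⟩
    by_contra hsp
    have hco : Nat.Coprime p s := (Nat.coprime_primes hp hs).2 (Ne.symm hsp)
    obtain ⟨n, hn⟩ := exists_pow_orderOf_eq (g := x) (p := p * s) (hco.mul_dvd_of_dvd_of_dvd hd hsd)
    generalize x ^ n = u at hn
    have how : orderOf (u ^ s) = p := by
      rw [orderOf_pow_of_dvd hs.ne_zero (hn ▸ dvd_mul_left s p), hn, Nat.mul_div_cancel _ hs.pos]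
    have hoy : orderOf (u ^ p) = s := by
      rw [orderOf_pow_of_dvd hp.ne_zero (hn ▸ dvd_mul_right p s), hn, Nat.mul_div_cancel_left _ hp.pos]
    have hyw : Commute (u ^ p) (u ^ s) := Commute.pow_pow_self u p s
    have hy1 : u ^ p ≠ 1 := fun e => by rw [e, orderOf_one] at hoy; exact hs.ne_one hoy.symm
    have hw1 : u ^ s ≠ 1 := fun e => by rw [e, orderOf_one] at how; exact hp.ne_one how.symm
    obtain ⟨a, ha, ha1, hwa⟩ := exists_commute_of_pow_eq_one (p := p) (k := 1) (x := u ^ s)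
      (by rw [pow_one, ← how, pow_orderOf_eq_one]) Z hpZ
    have hwy : u ^ s ∈ P.comp (u ^ p) := P.mem_of_orderOf_ne hy1 (by rw [how, hoy]; exact Ne.symm hsp) hyw
    have heq : P.comp (u ^ s) = P.comp (u ^ p) := P.eq_of_mem hy1 hw1 hwy
    have hya : u ^ p * a ∉ P.comp (u ^ s) := fun h => star (u ^ p) a (hoy.symm ▸ hs) (hoy.symm ▸ hsp)
      (by
        rw [← heq]
        have := mul_mem (inv_mem (heq.symm ▸ P.mem (u ^ p) : u ^ p ∈ P.comp (u ^ s))) h
        rwa [← mul_assoc, inv_mul_cancel, one_mul] at this) ha1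
      fun z hz => ha.2.1 z hz.1
    have e := (P.out_order hw1 (hyw.symm.mul_right hwa) hya).2
    rw [how] at e
    have h1 : ((u ^ p : G) : G ⧸ N) ^ p = 1 := by
      have h2 : ((u ^ p * a : G) : G ⧸ N) ^ p = 1 := by
        rw [← QuotientGroup.mk_pow, show (u ^ p * a) ^ p = 1 from orderOf_dvd_iff_pow_eq_one.1 e.dvd]; rfl
      rwa [QuotientGroup.mk_mul, (QuotientGroup.eq_one_iff a).2 ha.1, mul_one] at h2
    have h2 : (u ^ p) ^ p ∈ N := (QuotientGroup.eq_one_iff _).1 (by rw [QuotientGroup.mk_pow]; exact h1)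
    have h3 : u ^ p ∈ N := by
      obtain ⟨m, hm⟩ := exists_pow_eq_self_of_coprime (x := u ^ p) (n := p) (hoy.symm ▸ hco)
      exact hm ▸ pow_mem h2 m
    have := orderOf_eq_prime (hexp _ h3) hy1
    exact hsp (hoy.symm.trans this)
  have hker : N ≤ (MulAut.conjNormal : G →* MulAut Z).ker := fun a ha =>
    MonoidHom.mem_ker.2 (MulEquiv.ext fun v => Subtype.ext (by
      rw [hconj, MulAut.one_apply, (v.2.2.1 a ha).symm.eq, mul_inv_cancel_right]))
  let φ : G ⧸ N →* MulAut Z := QuotientGroup.lift _ MulAut.conjNormal hker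
  have hφ : ∀ (g : G) (v : Z), ((φ (g : G ⧸ N) v : Z) : G) = g * v.1 * g⁻¹ := hconj
  have hfix : ∀ q : G ⧸ N, q ≠ 1 → ¬ p ∣ orderOf q → ∀ v, φ q v = v → v = 1 := by
    intro q hq hqp v hv
    obtain ⟨x, rfl⟩ := QuotientGroup.mk_surjective q
    obtain ⟨s, hs, hsd⟩ := Nat.exists_prime_and_dvd (n := orderOf (x : G ⧸ N))
      fun e => hq (orderOf_eq_one_iff.1 e)
    have hc : Commute x v.1 := mul_inv_eq_iff_eq_mul.1 ((hφ x v).symm.trans (congrArg Subtype.val hv))
    exact Subtype.ext (hfree' x v.1 s hs (fun e => hqp (e ▸ hsd))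
      (hsd.trans (orderOf_map_dvd (QuotientGroup.mk' N) x)) v.2.1 hc)
  have hlift : ∀ x : G, p ∣ orderOf (x : G ⧸ N) → ∃ k, orderOf x = p ^ k := fun x hd =>
    hnoPS x (hd.trans (orderOf_map_dvd (QuotientGroup.mk' N) x))
  -- the image of the norm of an element of order `p` has at most two elements
  have hrange : ∀ q : G ⧸ N, orderOf q = p → ∀ a b : Z,
      (∏ j ∈ Finset.range p, φ (q ^ j) a) ≠ 1 → (∏ j ∈ Finset.range p, φ (q ^ j) b) ≠ 1 →
      (∏ j ∈ Finset.range p, φ (q ^ j) a) = ∏ j ∈ Finset.range p, φ (q ^ j) b := by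
    intro q hq a b ha hb
    by_contra hab
    obtain ⟨g, hg⟩ := QuotientGroup.mk_surjective q
    have hpow : ∀ v : Z, (v.1 * g) ^ p = (∏ j ∈ Finset.range p, φ (q ^ j) v : Z) * g ^ p := fun v => by
      have := mul_pow_eq_prod Z.subtype (φ.comp (QuotientGroup.mk' N)) hφ v g p
      rw [← hg]; exact this
    set ν : Z →* Z := ∏ j ∈ Finset.range p, (φ (q ^ j)).toMonoidHom with hνdef
    have hν : ∀ v : Z, ν v = ∏ j ∈ Finset.range p, φ (q ^ j) v := fun v => by
      rw [hνdef, MonoidHom.finsetProd_apply]; rfl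
    rw [← hν, ← hν] at hab
    rw [← hν] at ha hb
    simp only [← hν] at hpow
    obtain ⟨k, hk⟩ := hlift g (hg.symm ▸ hq.symm ▸ dvd_rfl)
    obtain ⟨e, he, he1, hge⟩ := exists_commute_of_pow_eq_one (p := p) (k := k) (x := g)
      (hk ▸ pow_orderOf_eq_one g) Z hpZ
    have key : ∀ v : Z, (ν v : G) * g ^ p ≠ 1 → v.1 * g ∈ P.comp e := by
      intro v hv
      have hne : v.1 * g ≠ 1 := fun h1 => hv (by rw [← hpow, h1, one_pow])
      have hc : Commute (v.1 * g) e := (v.2.2.1 e he.1).mul_left hge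
      have hnp : ¬ (orderOf (v.1 * g)).Prime := fun hpr => by
        have hd : p ∣ orderOf (v.1 * g) := by
          refine dvd_trans ?_ (orderOf_map_dvd (QuotientGroup.mk' N) (v.1 * g))
          rw [QuotientGroup.mk'_apply, QuotientGroup.mk_mul, (QuotientGroup.eq_one_iff v.1).2 v.2.1,
            one_mul, hg, hq]
        apply hv
        rw [← hpow, (Nat.prime_dvd_prime_iff_eq hp hpr).1 hd, pow_orderOf_eq_one]
      rw [P.eq_of_mem hne he1 (P.cent_le hne hnp hc)]
      exact P.mem _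
    have sub : ∀ x t : Z, (ν x : G) * g ^ p ≠ 1 → (ν (x * t) : G) * g ^ p ≠ 1 → t.1 ∈ P.comp e := by
      intro x t hx hxt
      have := mul_mem (key _ hxt) (inv_mem (key _ hx))
      have hcm : (x * t : Z).1 = t.1 * x.1 := by rw [mul_comm x t, Subgroup.coe_mul]
      rw [hcm, mul_inv_rev] at this
      simpa [mul_assoc] using this
    obtain ⟨v0, hv0⟩ : ∃ v : Z, (ν v : G) * g ^ p = 1 := by
      by_contra hno
      push Not at hno
      exact hZnot e he1 fun t ht => sub 1 ⟨t, ht⟩ (hno 1) (hno _)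
    have hgp : g ^ p = (ν v0 : G)⁻¹ := eq_inv_of_mul_eq_one_right hv0
    have hne : ∀ x : Z, ν x ≠ ν v0 → (ν x : G) * g ^ p ≠ 1 := fun x hx h => hx (Subtype.ext (by
      rw [hgp, mul_inv_eq_one] at h; exact h))
    have hane : ν (v0 * a) ≠ ν v0 := by rw [map_mul]; simpa using ha
    have hbne : ν (v0 * b) ≠ ν v0 := by rw [map_mul]; simpa using hb
    refine hZnot e he1 fun t ht => ?_
    by_cases h : ν (v0 * a * ⟨t, ht⟩) = ν v0
    · refine sub (v0 * b) ⟨t, ht⟩ (hne _ hbne) (hne _ fun h' => hab ?_)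
      rw [map_mul, map_mul] at h h'
      exact mul_left_cancel (mul_right_cancel (h.trans h'.symm))
    · exact sub (v0 * a) ⟨t, ht⟩ (hne _ hane) (hne _ h)
  by_cases htop : N = ⊤
  · refine Or.inr (Or.inl ⟨p, hp, fun e => hN ?_⟩)
    refine le_bot_iff.1 (fun x _ => ?_)
    have : Subgroup.closure {g : G | g ^ p ≠ 1} ≤ ⊥ :=
      (closure_le _).2 fun y hy => absurd (hexp y (htop ▸ mem_top y)) hy
    exact this (e ▸ mem_top x)
  by_cases hpQ : p ∣ Nat.card (G ⧸ N)
  swap
  · refine Or.inr (Or.inr (frobenius_of_kernel hN htop fun a ha ha1 y hay => by_contra fun hy => ha1 ?_))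
    have hne : (y : G ⧸ N) ≠ 1 := fun e => hy ((QuotientGroup.eq_one_iff y).1 e)
    obtain ⟨s, hs, hsd⟩ := Nat.exists_prime_and_dvd (n := orderOf (y : G ⧸ N))
      fun e => hne (orderOf_eq_one_iff.1 e)
    exact hfree' y a s hs (fun e => hpQ (e ▸ hsd.trans (orderOf_dvd_natCard _)))
      (hsd.trans (orderOf_map_dvd (QuotientGroup.mk' N) y)) ha hay.symm
  have hQbot : pCore p (G ⧸ N) = ⊥ := CfsgLib.Core.pCore_quotient_pCore p G
  obtain ⟨w, hw⟩ := exists_prime_orderOf_dvd_card' (G := G ⧸ N) p hpQ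
  haveI : Nontrivial Z := ⟨⟨⟨z0, hz0⟩, 1, fun e => hz01 (congrArg Subtype.val e)⟩⟩
  have hw1 : w ≠ 1 := fun e => by rw [e, orderOf_one] at hw; exact hp.ne_one hw.symm
  rcases hp.eq_two_or_odd' with h2 | hodd
  swap
  · exfalso
    have hp2 : p ≠ 2 := fun e => absurd (e ▸ hodd) (by decide)
    have hQ : PLocal p (G ⧸ N) := by
      refine ⟨fun u hu => ?_, fun u hu K hK hKp hn => ?_⟩
      · obtain ⟨x, rfl⟩ := QuotientGroup.mk_surjective u
        obtain ⟨k, hk⟩ := hlift x hu
        obtain ⟨m, -, hm⟩ := (Nat.dvd_prime_pow hp).1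
          (hk ▸ orderOf_map_dvd (QuotientGroup.mk' N) x)
        exact ⟨m, hm⟩
      have hu' : u ∉ K := fun h => hKp (hu ▸ orderOf_dvd_natCard _ h)
      have hord : ∀ x ∈ K, orderOf (x * u) = p := by
        intro x hx
        have hmem : ∀ j : ℕ, (x * u) ^ j * (u ^ j)⁻¹ ∈ K := fun j => by
          induction j with
          | zero => simp
          | succ j ih =>
            have : (x * u) ^ (j + 1) * (u ^ (j + 1))⁻¹ =
                (x * u) ^ j * (u ^ j)⁻¹ * (u ^ j * x * (u ^ j)⁻¹) := by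
              rw [pow_succ, pow_succ]; group
            rw [this]
            exact mul_mem ih ((mem_normalizer_iff.1 (pow_mem hn j) x).1 hx)
        have h : (x * u) ^ p ∈ K := by
          have := hmem p
          rwa [show u ^ p = 1 from hu ▸ pow_orderOf_eq_one u, inv_one, mul_one] at this
        have hd : p ∣ orderOf (x * u) := by
          by_contra hnd
          obtain ⟨m, hm⟩ := exists_pow_eq_self_of_coprime (x := x * u) (hp.coprime_iff_not_dvd.2 hnd)
          exact hu' (by simpa using mul_mem (inv_mem hx) (hm ▸ pow_mem h m : x * u ∈ K))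
        obtain ⟨g, hg⟩ := QuotientGroup.mk_surjective (x * u)
        obtain ⟨k, hk⟩ := hlift g (hg.symm ▸ hd)
        have h1 : ((x * u) ^ p) ^ p ^ k = 1 := by
          rw [← pow_mul, mul_comm, pow_mul, ← hg, ← QuotientGroup.mk_pow, ← hk, pow_orderOf_eq_one,
            QuotientGroup.mk_one, one_pow]
        obtain ⟨m, -, hm⟩ := (Nat.dvd_prime_pow hp).1 (orderOf_dvd_of_pow_eq_one h1)
        have h2 : (x * u) ^ p = 1 := by
          refine orderOf_eq_one_iff.1 (hm.trans ?_)
          rcases m with _ | m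
          · rfl
          · exact absurd ((hm ▸ dvd_pow_self p m.succ_ne_zero).trans (orderOf_dvd_natCard _ h)) hKp
        exact orderOf_eq_prime h2 fun e => by rw [e, orderOf_one] at hd; exact hp.ne_one (Nat.dvd_one.1 hd)
      obtain ⟨v, hv⟩ := exists_ne (1 : Z)
      refine hv (hh φ K hp hn (fun x hx => hord x hx ▸ pow_orderOf_eq_one _) (fun x hx a => ?_)
        (fun a ha => ?_) (fun a ha => ?_) v)
      · by_contra ha
        set b := ∏ j ∈ Finset.range p, φ ((x * u) ^ j) a with hb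
        have hb2 : ∏ j ∈ Finset.range p, φ ((x * u) ^ j) (a ^ 2) = b ^ 2 := by
          rw [hb, ← Finset.prod_pow]
          exact Finset.prod_congr rfl fun j _ => map_pow (φ _) a 2
        have hbp : b ^ p = 1 := Subtype.ext b.2.2.2
        have hb2ne : b ^ 2 ≠ 1 := fun e => by
          have := orderOf_eq_prime hbp ha ▸ orderOf_dvd_of_pow_eq_one e
          exact hp2 ((Nat.prime_dvd_prime_iff_eq hp Nat.prime_two).1 this)
        have := hrange _ (hord x hx) (a ^ 2) a (hb2.symm ▸ hb2ne) ha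
        rw [hb2, ← hb, pow_two] at this
        exact ha (mul_eq_left.1 this)
      · obtain ⟨k, hk, hk1⟩ := (bot_or_exists_ne_one K).resolve_left hK
        exact hfix k hk1 (fun e => hKp (e.trans (orderOf_dvd_natCard _ hk))) a (ha k hk)
      · have h2 : a ^ p = 1 := Subtype.ext a.2.2.2
        have := pow_gcd_eq_one.2 ⟨h2, ha⟩
        rwa [hp.coprime_iff_not_dvd.2 hKp, pow_one] at this
    have := hQ.mem_pCore hp φ (fun s hs hsp => hfix s
      (fun e => by rw [e, orderOf_one] at hs; exact Nat.not_prime_one hs)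
      (fun hd => hsp ((Nat.prime_dvd_prime_iff_eq hp hs).1 hd).symm)) hw
    rw [hQbot, mem_bot] at this
    exact hw1 this
  subst h2
  have hNZ : N ≤ Z := fun a ha => ⟨ha, fun b hb => by
    have h1 : ∀ c ∈ N, c⁻¹ = c := fun c hc => inv_eq_of_mul_eq_one_right (by rw [← pow_two, hexp c hc])
    show a * b = b * a
    calc a * b = (a * b)⁻¹ := (h1 _ (mul_mem ha hb)).symm
      _ = b * a := by rw [mul_inv_rev, h1 a ha, h1 b hb], hexp a ha⟩
  have hww : w * w = 1 := by rw [← pow_two, ← hw, pow_orderOf_eq_one]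
  obtain ⟨h, hh1, hho, hinv⟩ := CfsgLib.LocalEvenB.exists_odd_inverted hww (by
    rw [hQbot, mem_bot]; exact hw1)
  obtain ⟨s, hs, hsd⟩ := Nat.exists_prime_and_dvd (n := orderOf h) fun e => hh1 (orderOf_eq_one_iff.1 e)
  obtain ⟨n, hn⟩ := exists_pow_orderOf_eq hsd
  set y := h ^ n with hydef
  have hyinv : w * y * w⁻¹ = y⁻¹ := by rw [hydef, ← conj_pow, hinv, inv_pow]
  have hs2 : s ≠ 2 := fun e => by subst e; exact absurd hho (Nat.not_odd_iff_even.2 (even_iff_two_dvd.2 hsd))
  have hy1 : y ≠ 1 := fun e => by rw [e, orderOf_one] at hn; exact hs.ne_one hn.symm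
  have hy2 : ¬ 2 ∣ orderOf y := by rw [hn]; exact fun hd => hs2 ((Nat.prime_dvd_prime_iff_eq Nat.prime_two hs).1 hd).symm
  have hyw : orderOf (y * w) = 2 := by
    refine orderOf_eq_prime ?_ fun e => ?_
    · rw [pow_two]
      calc y * w * (y * w) = y * (w * y * w⁻¹) * (w * w) := by group
        _ = 1 := by rw [hyinv, hww]; group
    · have := congrArg orderOf (eq_inv_of_mul_eq_one_left e)
      rw [orderOf_inv, hw] at this
      exact hy2 (this ▸ dvd_rfl)
  have hsq : ∀ a : Z, a * a = 1 := fun a => Subtype.ext (by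
    rw [Subgroup.coe_mul, ← pow_two]; exact a.2.2.2)
  have hprod : ∀ (q : G ⧸ N) (a : Z), ∏ j ∈ Finset.range 2, φ (q ^ j) a = φ q a * a := fun q a => by
    rw [Finset.prod_range_succ, Finset.prod_range_one, pow_zero, pow_one, map_one, MulAut.one_apply, mul_comm]
  haveI := Fintype.ofFinite Z
  let M : G ⧸ N → Finset Z := fun q => Finset.univ.image fun a : Z => φ q a * a
  have hM : ∀ q : G ⧸ N, orderOf q = 2 → (M q).card ≤ 2 := by
    intro q hq
    have h1 : ((M q).erase 1).card ≤ 1 := by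
      refine Finset.card_le_one.2 fun a ha b hb => ?_
      simp only [M, Finset.mem_erase, Finset.mem_image, Finset.mem_univ, true_and] at ha hb
      obtain ⟨ha1, a', rfl⟩ := ha
      obtain ⟨hb1, b', rfl⟩ := hb
      have := hrange q hq a' b' (by rw [hprod]; exact ha1) (by rw [hprod]; exact hb1)
      rwa [hprod, hprod] at this
    have h2 := Finset.pred_card_le_card_erase (s := M q) (a := 1)
    omega
  have hinj : Function.Injective fun a : Z => φ y a * a := by
    intro a b hab
    have : φ y (a * b) = a * b := by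
      have h1 : φ y a * φ y b * (a * b) = 1 := by
        calc φ y a * φ y b * (a * b) = (φ y a * a) * (φ y b * b) := mul_mul_mul_comm _ _ _ _
          _ = 1 := by simp only at hab; rw [hab, hsq]
      rw [map_mul, eq_inv_of_mul_eq_one_left h1, eq_comm]
      exact eq_inv_of_mul_eq_one_left (hsq _)
    have := hfix y hy1 hy2 _ this
    rw [eq_inv_of_mul_eq_one_left this]
    exact (eq_inv_of_mul_eq_one_left (hsq b)).symm
  have hcard : Nat.card Z ≤ 4 := by
    have hsub : Finset.univ.image (fun a : Z => φ y a * a) ⊆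
        (M (y * w) ×ˢ M w).image fun ab => ab.1 * ab.2 := by
      intro c hc
      simp only [M, Finset.mem_image, Finset.mem_univ, true_and, Finset.mem_product] at hc ⊢
      obtain ⟨a, rfl⟩ := hc
      refine ⟨(φ (y * w) (φ w a) * φ w a, φ w a * a), ⟨⟨_, rfl⟩, ⟨_, rfl⟩⟩, ?_⟩
      rw [← MulAut.mul_apply, ← map_mul, mul_assoc y w w, hww, mul_one]
      rw [mul_assoc, ← mul_assoc (φ w a), hsq, one_mul]
    have h1 := (Finset.card_le_card hsub).trans Finset.card_image_le
    rw [Finset.card_image_of_injective _ hinj, Finset.card_product, Finset.card_univ] at h1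
    rw [Nat.card_eq_fintype_card]
    exact h1.trans (Nat.mul_le_mul (hM _ hyw) (hM _ hw))
  have hcard4 : Nat.card Z = 4 := by
    obtain ⟨m, hm⟩ := IsPGroup.iff_card.1 (hNp.to_le (fun a ha => ha.1 : Z ≤ N))
    have hm0 : m ≠ 0 := fun e => by
      rw [e, pow_zero] at hm; exact hz01 (mem_bot.1 (card_eq_one.1 hm ▸ hz0))
    have hm1 : m ≠ 1 := fun e => by
      rw [e, pow_one] at hm
      obtain ⟨v, hv⟩ := exists_ne (1 : Z)
      refine hv (hfix y hy1 hy2 v ?_)
      by_contra hne
      have h3 : ({1, v, φ y v} : Finset Z).card = 3 := by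
        rw [Finset.card_eq_three]
        exact ⟨1, v, φ y v, hv.symm, (by simpa using fun e => hv (by simpa using e.symm)), Ne.symm hne, rfl⟩
      have := Finset.card_le_univ ({1, v, φ y v} : Finset Z)
      rw [h3, ← Nat.card_eq_fintype_card, hm] at this
      omega
    have hm2 : m ≤ 2 := (Nat.pow_le_pow_iff_right (le_refl 2)).1 (hm ▸ hcard)
    rw [hm, show m = 2 by omega]; rfl
  have hφinj : Function.Injective φ := by
    rw [← MonoidHom.ker_eq_bot_iff, ← le_bot_iff, ← hQbot]
    refine CfsgLib.Core.le_pCore (by_contra fun hnp => ?_)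
    obtain ⟨g, r, hr, hr2, hgr⟩ := exists_orderOf_prime_ne hnp
    obtain ⟨v, hv⟩ := exists_ne (1 : Z)
    refine hv (hfix g.1 (fun e => ?_) (fun hd => ?_) v (by rw [MonoidHom.mem_ker.1 g.2]; rfl))
    · rw [show g = 1 from Subtype.ext e, orderOf_one] at hgr; exact hr.ne_one hgr.symm
    · rw [orderOf_coe, hgr] at hd
      exact hr2 ((Nat.prime_dvd_prime_iff_eq Nat.prime_two hr).1 hd).symm
  have hQ6 : Nat.card (G ⧸ N) = 6 := by
    have hd := (card_dvd_of_injective φ hφinj).trans (card_mulAut_dvd hcard4)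
    have hd2 : 2 ∣ Nat.card (G ⧸ N) := hw ▸ orderOf_dvd_natCard w
    have hds : s ∣ Nat.card (G ⧸ N) := hn ▸ orderOf_dvd_natCard y
    have hs3 : s = 3 := by
      have h6 : s ∣ 6 := hds.trans hd
      have := Nat.le_of_dvd (by norm_num) h6
      interval_cases s <;> first | rfl | exact absurd hs (by decide) | exact absurd h6 (by decide) | omega
    exact Nat.dvd_antisymm hd ((Nat.Coprime.mul_dvd_of_dvd_of_dvd (by decide : Nat.Coprime 2 3) hd2 (hs3 ▸ hds)))
  have hG24 : Nat.card G = 24 := by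
    rw [card_eq_card_quotient_mul_card_subgroup N, hQ6,
      le_antisymm hNZ (fun a ha => ha.1), hcard4]
  refine Or.inl ?_
  haveI : Fact (Nat.Prime 3) := ⟨Nat.prime_three⟩
  have hS : Nat.card (Sylow 3 G) = 4 ∨ Nat.card (Sylow 3 G) = 1 := by
    obtain ⟨S⟩ := (inferInstance : Nonempty (Sylow 3 G))
    have h1 : Nat.card (Sylow 3 G) ∣ 8 := by
      have := S.card_dvd_index
      have hidx : (S : Subgroup G).index = 8 := by
        have hc : Nat.card (S : Subgroup G) = 3 := by
          rw [S.card_eq_multiplicity, hG24, show (24 : ℕ) = 3 ^ 1 * 8 from rfl]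
          rw [Nat.factorization_mul (by norm_num) (by norm_num), Finsupp.add_apply,
            Nat.Prime.factorization_pow Nat.prime_three, Finsupp.single_eq_same,
            Nat.factorization_eq_zero_of_not_dvd (by decide : ¬ 3 ∣ 8)]
          rfl
        have := (S : Subgroup G).index_mul_card
        rw [hc, hG24] at this
        omega
      rwa [hidx] at this
    have h2 := card_sylow_modEq_one 3 G
    have h3 := Nat.le_of_dvd (by norm_num) h1
    unfold Nat.ModEq at h2
    interval_cases hc : Nat.card (Sylow 3 G) <;> omega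
  have hord3 : ∀ (S : Sylow 3 G) (a : G), a ∈ N → a ∈ normalizer ((S : Subgroup G) : Set G) → a = 1 := by
    intro S a ha han
    obtain ⟨x, hx, hox⟩ : ∃ x ∈ (S : Subgroup G), orderOf x = 3 := by
      obtain ⟨x, hx⟩ := exists_prime_orderOf_dvd_card' (G := (S : Subgroup G)) 3
        (S.dvd_card_of_dvd_card (hG24 ▸ by norm_num))
      exact ⟨x.1, x.2, by rw [orderOf_coe, hx]⟩
    refine hfree x a (hox.symm ▸ Nat.prime_three) (by rw [hox]; decide) ha ?_
    have h1 : a * x * a⁻¹ * x⁻¹ ∈ (S : Subgroup G) := mul_mem ((mem_normalizer_iff.1 han x).1 hx) (inv_mem hx)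
    have h2 : a * x * a⁻¹ * x⁻¹ ∈ N := by
      rw [show a * x * a⁻¹ * x⁻¹ = a * (x * a⁻¹ * x⁻¹) by group]
      exact mul_mem ha (hNn.conj_mem _ (inv_mem ha) x)
    obtain ⟨k, hk⟩ := S.isPGroup' ⟨_, h1⟩
    have h4 := pow_gcd_eq_one.2 ⟨hexp _ h2, (congrArg Subtype.val hk : (a * x * a⁻¹ * x⁻¹) ^ 3 ^ k = 1)⟩
    rw [Nat.Coprime.pow_right k (by decide : Nat.Coprime 2 3), pow_one] at h4
    exact (mul_inv_eq_iff_eq_mul.1 (mul_inv_eq_one.1 h4)).symm
  have hS4 : Nat.card (Sylow 3 G) = 4 := by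
    refine hS.resolve_right fun h1 => ?_
    obtain ⟨S⟩ := (inferInstance : Nonempty (Sylow 3 G))
    haveI : Subsingleton (Sylow 3 G) := Finite.card_le_one_iff_subsingleton.1 h1.le
    refine hz01 (hord3 S z0 hz0.1 ?_)
    exact Sylow.smul_eq_iff_mem_normalizer.1 (Subsingleton.elim _ _)
  let α := MulAction.toPermHom G (Sylow 3 G)
  have hα : α.ker = ⊥ := by
    have hle : IsPGroup 2 α.ker := by
      by_contra hnp
      obtain ⟨g, r, hr, hr2, hgr⟩ := exists_orderOf_prime_ne hnp
      have hr3 : r = 3 := by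
        have h := (hgr ▸ orderOf_coe g : orderOf g.1 = r) ▸ orderOf_dvd_natCard g.1
        rw [hG24, show (24 : ℕ) = 2 ^ 3 * 3 from rfl] at h
        rcases hr.dvd_mul.1 h with h | h
        · exact absurd ((Nat.prime_dvd_prime_iff_eq hr Nat.prime_two).1 (hr.dvd_of_dvd_pow h)) hr2
        · exact (Nat.prime_dvd_prime_iff_eq hr Nat.prime_three).1 h
      subst hr3
      have hz : IsPGroup 3 (zpowers g.1) := IsPGroup.of_card (n := 1) (by
        rw [Nat.card_zpowers, orderOf_coe, hgr, pow_one])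
      have hall : ∀ S : Sylow 3 G, (S : Subgroup G) = zpowers g.1 := by
        intro S
        have h1 : zpowers g.1 ≤ (S : Subgroup G) := by
          have hnorm : g.1 ∈ normalizer ((S : Subgroup G) : Set G) :=
            Sylow.smul_eq_iff_mem_normalizer.1 (Equiv.ext_iff.1 (MonoidHom.mem_ker.1 g.2) S)
          have := hz.inf_normalizer_sylow S
          have hm : g.1 ∈ zpowers g.1 ⊓ _ := ⟨mem_zpowers g.1, hnorm⟩
          exact zpowers_le.2 (this.le hm).2
        refine (Subgroup.eq_of_le_of_card_ge h1 ?_).symm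
        rw [Nat.card_zpowers, orderOf_coe, hgr, S.card_eq_multiplicity, hG24,
          show (24 : ℕ) = 3 ^ 1 * 8 from rfl, Nat.factorization_mul (by norm_num) (by norm_num),
          Finsupp.add_apply, Nat.Prime.factorization_pow Nat.prime_three, Finsupp.single_eq_same,
          Nat.factorization_eq_zero_of_not_dvd (by decide : ¬ 3 ∣ 8)]
        rfl
      haveI : Subsingleton (Sylow 3 G) := ⟨fun S T => Sylow.ext ((hall S).trans (hall T).symm)⟩
      have := Finite.card_le_one_iff_subsingleton.2 (inferInstance : Subsingleton (Sylow 3 G))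
      omega
    rw [eq_bot_iff]
    intro g hg
    obtain ⟨S⟩ := (inferInstance : Nonempty (Sylow 3 G))
    exact mem_bot.2 (hord3 S g (CfsgLib.Core.le_pCore hle hg)
      (Sylow.smul_eq_iff_mem_normalizer.1 (Equiv.ext_iff.1 (MonoidHom.mem_ker.1 hg) S)))
  have hαinj : Function.Injective α := (MonoidHom.ker_eq_bot_iff α).1 hα
  have hbij : Function.Bijective α := hαinj.bijective_of_nat_card_le (by
    rw [Nat.card_perm, hS4, hG24]; decide)
  exact ⟨(MulEquiv.ofBijective α hbij).trans
    (Finite.equivFinOfCardEq hS4).permCongrHom⟩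

end Pn

end CfsgLib.Partition
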