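import Cfsg.Agent.Lib.Partition.Basic
import Cfsg.Agent.Lib.Partition.Engine
import Cfsg.Agent.Lib.Core.Nilpotent
import Cfsg.Agent.S4249

/-!
# A partition with a normal component

* `Pn.isNilpotent_comp`: a normal component with a commuting pair across it is nilpotent.
* `Pn.normal_component`: then the group has a proper Hughes subgroup or is a Frobenius group.
-/

set_option autoImplicit false

open Cfsg Subgroup

namespace CfsgLib.Partition

variable {G : Type*} [Group G]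

theorem exists_central_orderOf_eq [Finite G] [Group.IsNilpotent G] {p : ℕ} [Fact p.Prime]
    (h : p ∣ Nat.card G) : ∃ z ∈ center G, orderOf z = p := by
  obtain ⟨P⟩ := (inferInstance : Nonempty (Sylow p G))
  obtain ⟨z, ⟨hzP, hzc⟩, hz1⟩ := (bot_or_exists_ne_one _).resolve_left
    (CfsgLib.Core.inf_center_ne_bot_of_isNilpotent (P : Subgroup G) (P.ne_bot_of_dvd_card h))
  obtain ⟨k, hk⟩ := P.isPGroup' ⟨z, hzP⟩
  have hk' : z ^ p ^ k = 1 := congrArg Subtype.val hk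
  obtain ⟨m, -, hm⟩ := (Nat.dvd_prime_pow (Fact.out (p := p.Prime))).1 (orderOf_dvd_of_pow_eq_one hk')
  have hm0 : m ≠ 0 := fun e => hz1 (orderOf_eq_one_iff.1 (by rw [hm, e, pow_zero]))
  obtain ⟨n, hn⟩ := exists_pow_orderOf_eq (p := p) (g := z) (hm ▸ dvd_pow_self p hm0)
  exact ⟨z ^ n, pow_mem hzc n, hn⟩

namespace Pn

variable [Finite G] (P : Pn G) {g0 : G}

theorem eq_one_of_pow_mem (h1 : g0 ≠ 1) {x : G} (hx : x ∉ P.comp g0) {k : ℕ}
    (hk : x ^ k ∈ P.comp g0) : x ^ k = 1 := by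
  by_contra h
  have hx1 : x ≠ 1 := fun e => hx (e ▸ one_mem _)
  exact hx (P.eq_of_common hx1 h1 h (pow_mem (P.mem x) k) hk ▸ P.mem x)

variable [(P.comp g0).Normal]

theorem orderOf_mk (h1 : g0 ≠ 1) {x : G} (hx : x ∉ P.comp g0) :
    orderOf (x : G ⧸ P.comp g0) = orderOf x := by
  refine Nat.dvd_antisymm (orderOf_map_dvd (QuotientGroup.mk' (P.comp g0)) x) ?_
  refine orderOf_dvd_of_pow_eq_one (P.eq_one_of_pow_mem h1 hx ((QuotientGroup.eq_one_iff _).1 ?_))
  rw [QuotientGroup.mk_pow, pow_orderOf_eq_one]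

omit [Finite G] [(P.comp g0).Normal] in
/-- The primes for which some element outside the component centralises one inside. -/
def Bad (g0 : G) (p : ℕ) : Prop :=
  p.Prime ∧ ∃ w a : G, w ∉ P.comp g0 ∧ a ∈ P.comp g0 ∧ a ≠ 1 ∧ Commute a w ∧ orderOf a = p ∧ orderOf w = p

theorem bad_of_commute (h1 : g0 ≠ 1) {a w : G} (ha : a ∈ P.comp g0) (ha1 : a ≠ 1)
    (hw : w ∉ P.comp g0) (hc : Commute a w) :
    P.Bad g0 (orderOf a) ∧ orderOf w = orderOf a := by
  obtain ⟨hp, he⟩ := P.out_order ha1 hc (by rw [P.eq_of_mem h1 ha1 ha]; exact hw)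
  exact ⟨⟨hp, w, a, hw, ha, ha1, hc, rfl, he⟩, he⟩

theorem isNilpotent_comp (h1 : g0 ≠ 1) {p : ℕ} (hb : P.Bad g0 p) :
    Group.IsNilpotent (P.comp g0) := by
  obtain ⟨hp, w, a, hw, ha, -, -, -, how⟩ := hb
  haveI := Fact.mk hp
  set B := P.comp g0 ⊔ zpowers w with hB
  set A' := (P.comp g0).subgroupOf B with hA'
  have hAB : P.comp g0 ≤ B := le_sup_left
  have hord : ∀ x ∈ B, x ∉ P.comp g0 → x ^ p = 1 := by
    intro x hx hxA
    obtain ⟨y, hy, z, hz, rfl⟩ := mem_sup_of_normal_left.1 hx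
    obtain ⟨n, rfl⟩ := mem_zpowers_iff.1 hz
    refine P.eq_one_of_pow_mem h1 hxA ((QuotientGroup.eq_one_iff _).1 ?_)
    rw [QuotientGroup.mk_pow, QuotientGroup.mk_mul, (QuotientGroup.eq_one_iff y).2 hy, one_mul,
      QuotientGroup.mk_zpow, ← zpow_natCast, ← zpow_mul, mul_comm, zpow_mul, zpow_natCast,
      ← QuotientGroup.mk_pow, ← how, pow_orderOf_eq_one, QuotientGroup.mk_one, one_zpow]
  have hle : Subgroup.closure {b : B | b ^ p ≠ 1} ≤ A' := by
    refine (closure_le _).2 fun b hb' => mem_subgroupOf.2 ?_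
    by_contra hbA
    exact hb' (Subtype.ext (hord b.1 b.2 hbA))
  have hA't : A' ≠ ⊤ := fun e => hw (subgroupOf_eq_top.1 e (mem_sup_right (mem_zpowers w)))
  by_cases hBp : IsPGroup p B
  · exact ((hBp.to_le hAB)).isNilpotent
  obtain ⟨hn, hi⟩ := Cfsg.Agent.S4249.result p hp hBp (fun e => hA't (top_le_iff.1 (e ▸ hle)))
  have hi' : A'.index = p :=
    ((Nat.dvd_prime hp).1 (hi ▸ index_dvd_of_le hle)).resolve_left fun e => hA't (index_eq_one.1 e)
  have heq : Subgroup.closure {b : B | b ^ p ≠ 1} = A' := by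
    refine le_antisymm hle (relIndex_eq_one.1 ?_)
    have := relIndex_mul_index hle
    rw [hi, hi'] at this
    exact Nat.eq_of_mul_eq_mul_right hp.pos (by rw [this, one_mul])
  rw [heq] at hn
  exact Group.nilpotent_of_mulEquiv (subgroupOfEquivOfLe hAB)

theorem exists_commute_of_orderOf_eq (h1 : g0 ≠ 1) {p : ℕ} (hb : P.Bad g0 p) {x : G}
    (hx : x ∉ P.comp g0) (hox : orderOf x = p) :
    ∃ v ∈ P.comp g0, v ≠ 1 ∧ Commute x v ∧ orderOf v = p := by
  obtain ⟨hp, w, a, -, ha, -, -, hoa, -⟩ := hb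
  haveI := Fact.mk hp
  obtain ⟨v, hv, hv1, hc⟩ := exists_commute_of_pow_eq_one (p := p) (k := 1) (x := x)
    (by rw [pow_one, ← hox, pow_orderOf_eq_one]) (P.comp g0) (hoa ▸ orderOf_dvd_natCard _ ha)
  exact ⟨v, hv, hv1, hc, ((P.bad_of_commute h1 hv hv1 hx hc.symm).2).symm.trans hox⟩

theorem orderOf_eq_of_dvd (h1 : g0 ≠ 1) {p : ℕ} (hb : P.Bad g0 p) {x : G}
    (hx : x ∉ P.comp g0) (hd : p ∣ orderOf x) : orderOf x = p := by
  have hp := hb.1
  haveI := Fact.mk hp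
  have hox := (P.orderOf_mk h1 hx)
  by_cases hps : ∀ d : ℕ, d.Prime → d ∣ orderOf x → d = p
  · obtain ⟨k, hk⟩ : ∃ k, orderOf x = p ^ k :=
      ⟨_, Nat.eq_prime_pow_of_unique_prime_dvd (orderOf_pos x).ne' fun {d} => hps d⟩
    obtain ⟨_, w, a, -, ha, -, -, hoa, -⟩ := hb
    obtain ⟨v, hv, hv1, hc⟩ := exists_commute_of_pow_eq_one (p := p) (k := k) (x := x)
      (by rw [← hk, pow_orderOf_eq_one]) (P.comp g0) (hoa ▸ orderOf_dvd_natCard _ ha)
    obtain ⟨hb', he⟩ := P.bad_of_commute h1 hv hv1 hx hc.symm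
    exact ((Nat.prime_dvd_prime_iff_eq hp (he ▸ hb'.1)).1 hd).symm
  · push Not at hps
    obtain ⟨s, hs, hsd, hsp⟩ := hps
    have hco : Nat.Coprime p s := (Nat.coprime_primes hp hs).2 hsp.symm
    obtain ⟨n, hn⟩ := exists_pow_orderOf_eq (g := x) (p := p * s) (hco.mul_dvd_of_dvd_of_dvd hd hsd)
    set u := x ^ n
    have how : orderOf (u ^ s) = p := by
      rw [orderOf_pow_of_dvd hs.ne_zero (hn ▸ dvd_mul_left s p), hn, Nat.mul_div_cancel _ hs.pos]
    have hoy : orderOf (u ^ p) = s := by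
      rw [orderOf_pow_of_dvd hp.ne_zero (hn ▸ dvd_mul_right p s), hn, Nat.mul_div_cancel_left _ hp.pos]
    have hu : u ∉ P.comp g0 := fun hu => hx (by
      have hu1 : u ≠ 1 := fun e => hp.ne_one (mul_eq_one.1 (hn.symm.trans (e.symm ▸ orderOf_one))).1
      have hx1 : x ≠ 1 := fun e => hx (by rw [e]; exact one_mem _)
      exact P.eq_of_common hx1 h1 hu1 (pow_mem (P.mem x) n) hu ▸ P.mem x)
    have hw : u ^ s ∉ P.comp g0 := fun h => by
      rw [P.eq_one_of_pow_mem h1 hu h, orderOf_one] at how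
      exact hp.ne_one how.symm
    have hy : u ^ p ∉ P.comp g0 := fun h => by
      rw [P.eq_one_of_pow_mem h1 hu h, orderOf_one] at hoy
      exact hs.ne_one hoy.symm
    have hw1 : u ^ s ≠ 1 := fun e => hw (e ▸ one_mem _)
    obtain ⟨a, ha, ha1, hc, -⟩ := P.exists_commute_of_orderOf_eq h1 hb hw how
    have haw : a ∉ P.comp (u ^ s) := fun h =>
      hw (P.eq_of_common hw1 h1 ha1 h ha ▸ P.mem (u ^ s))
    have hyw : u ^ p ∈ P.comp (u ^ s) := P.mem_of_orderOf_ne hw1 (by rw [hoy, how]; exact hsp)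
      (Commute.pow_pow_self u s p)
    have hyaw : u ^ p * a ∉ P.comp (u ^ s) := fun h => haw (by simpa using mul_mem (inv_mem hyw) h)
    have e := (P.out_order hw1 ((Commute.pow_pow_self u s p).mul_right hc) hyaw).2
    have hyaA : u ^ p * a ∉ P.comp g0 := fun h => hy (by simpa using mul_mem h (inv_mem ha))
    have hm := P.orderOf_mk h1 hyaA
    rw [QuotientGroup.mk_mul, (QuotientGroup.eq_one_iff a).2 ha, mul_one, P.orderOf_mk h1 hy, e,
      hoy, how] at hm
    exact absurd hm hsp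

theorem fix_eq_one (h1 : g0 ≠ 1) {p : ℕ} {a x : G} (ha : a ∈ P.comp g0) (hap : a ^ p = 1)
    (hp : p.Prime) (hx : x ∉ P.comp g0) (hd : ¬ orderOf x = p) (hc : Commute a x) : a = 1 := by
  by_contra ha1
  haveI := Fact.mk hp
  exact hd ((P.bad_of_commute h1 ha ha1 hx hc).2.trans (orderOf_eq_prime hap ha1))

theorem bad_local (h1 : g0 ≠ 1) {p : ℕ} (hb : P.Bad g0 p) :
    PLocal p (G ⧸ P.comp g0) ∧
      ∀ q : G ⧸ P.comp g0, orderOf q = p → q ∈ pCore p (G ⧸ P.comp g0) := by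
  classical
  have hp := hb.1
  haveI := Fact.mk hp
  haveI := P.isNilpotent_comp h1 hb
  let V : Subgroup G :=
    { carrier := {a | a ∈ P.comp g0 ∧ (∀ b ∈ P.comp g0, Commute a b) ∧ a ^ p = 1}
      one_mem' := ⟨one_mem _, fun b _ => Commute.one_left b, one_pow p⟩
      mul_mem' := fun {a b} ha hb => ⟨mul_mem ha.1 hb.1, fun c hc => (ha.2.1 c hc).mul_left (hb.2.1 c hc),
        by rw [(ha.2.1 b hb.1).mul_pow, ha.2.2, hb.2.2, one_mul]⟩
      inv_mem' := fun {a} ha => ⟨inv_mem ha.1, fun c hc => (ha.2.1 c hc).inv_left,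
        by rw [inv_pow, ha.2.2, inv_one]⟩ }
  haveI hVn : V.Normal := ⟨fun a ha g => ⟨(inferInstance : (P.comp g0).Normal).conj_mem a ha.1 g,
    fun c hc => by
      have h := ha.2.1 (g⁻¹ * c * g) (by
        simpa using (inferInstance : (P.comp g0).Normal).conj_mem c hc g⁻¹)
      have := h.map (MulAut.conj g).toMonoidHom
      simpa [mul_assoc] using this,
    by rw [conj_pow, ha.2.2, mul_one, mul_inv_cancel]⟩⟩
  letI : CommGroup V := { (inferInstance : Group V) with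
    mul_comm := fun a b => Subtype.ext (a.2.2.1 b.1 b.2.1) }
  haveI : Nontrivial V := by
    obtain ⟨_, w, a, -, ha, -, -, hoa, -⟩ := hb
    obtain ⟨z, hz, hoz⟩ := exists_central_orderOf_eq (G := P.comp g0) (p := p)
      (hoa ▸ orderOf_dvd_natCard _ ha)
    refine ⟨⟨⟨z.1, z.2, fun b hb => congrArg Subtype.val ((mem_center_iff.1 hz ⟨b, hb⟩).symm), ?_⟩, 1, ?_⟩⟩
    · rw [← hoz, ← orderOf_coe, pow_orderOf_eq_one]
    · intro e
      have : orderOf z.1 = 1 := orderOf_eq_one_iff.2 (congrArg Subtype.val e)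
      rw [orderOf_coe, hoz] at this
      exact hp.ne_one this
  have hker : P.comp g0 ≤ (MulAut.conjNormal : G →* MulAut V).ker := fun a ha =>
    MonoidHom.mem_ker.2 (MulEquiv.ext fun v => Subtype.ext (by
      rw [MulAut.conjNormal_apply, MulAut.one_apply, (v.2.2.1 a ha).symm.eq, mul_inv_cancel_right]))
  let φ : G ⧸ P.comp g0 →* MulAut V := QuotientGroup.lift _ MulAut.conjNormal hker
  have hφ : ∀ (g : G) (v : V), ((φ (g : G ⧸ P.comp g0) v : V) : G) = g * v.1 * g⁻¹ := fun g v =>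
    MulAut.conjNormal_apply g v
  have hne : ∀ {x : G}, (x : G ⧸ P.comp g0) ≠ 1 → x ∉ P.comp g0 :=
    fun h hx => h ((QuotientGroup.eq_one_iff _).2 hx)
  have hordQ : ∀ u : G ⧸ P.comp g0, p ∣ orderOf u → orderOf u = p := by
    intro u hu
    obtain ⟨x, rfl⟩ := QuotientGroup.mk_surjective u
    have hx : x ∉ P.comp g0 := hne fun e => by
      rw [e, orderOf_one] at hu
      exact hp.ne_one (Nat.dvd_one.1 hu)
    rw [P.orderOf_mk h1 hx] at hu ⊢
    exact P.orderOf_eq_of_dvd h1 hb hx hu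
  have hf : ∀ q : G ⧸ P.comp g0, q ≠ 1 → orderOf q ≠ p → ∀ v, φ q v = v → v = 1 := by
    intro q hq hqp v hv
    obtain ⟨x, rfl⟩ := QuotientGroup.mk_surjective q
    have hxv : Commute v.1 x := by
      have := congrArg Subtype.val hv
      rw [hφ] at this
      exact (mul_inv_eq_iff_eq_mul.1 this).symm
    exact Subtype.ext (P.fix_eq_one h1 v.2.1 v.2.2.2 hp (hne hq)
      (by rw [← P.orderOf_mk h1 (hne hq)]; exact hqp) hxv)
  have hQ : PLocal p (G ⧸ P.comp g0) := by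
    refine ⟨fun u hu => ⟨1, by rw [pow_one]; exact hordQ u hu⟩, fun u hu K hK hKp hn => ?_⟩
    have hord : ∀ x ∈ K, orderOf (x * u) = p := by
      intro x hx
      refine hordQ _ (by_contra fun hnd => ?_)
      obtain ⟨m, hm⟩ := exists_pow_eq_self_of_coprime (x := x * u) (hp.coprime_iff_not_dvd.2 hnd)
      have hmem : ∀ j : ℕ, (x * u) ^ j * (u ^ j)⁻¹ ∈ K := fun j => by
        induction j with
        | zero => simp
        | succ j ih =>
          have : (x * u) ^ (j + 1) * (u ^ (j + 1))⁻¹ =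
              (x * u) ^ j * (u ^ j)⁻¹ * (u ^ j * x * (u ^ j)⁻¹) := by
            rw [pow_succ, pow_succ]; group
          rw [this]
          exact mul_mem ih ((mem_normalizer_iff.1 (pow_mem hn j) x).1 hx)
      have h : (x * u) ^ p ∈ K := by
        have := hmem p
        rwa [show u ^ p = 1 from hu ▸ pow_orderOf_eq_one u, inv_one, mul_one] at this
      have hu' : u ∈ K := by simpa using mul_mem (inv_mem hx) (hm ▸ pow_mem h m : x * u ∈ K)
      exact hKp (hu ▸ orderOf_dvd_natCard _ hu')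
    obtain ⟨v, hv⟩ := exists_ne (1 : V)
    refine hv (hh φ K hp hn (fun x hx => hord x hx ▸ pow_orderOf_eq_one _) (fun x hx v => ?_)
      (fun v hfix => ?_) (fun v hv' => ?_) v)
    · obtain ⟨g, hg⟩ := QuotientGroup.mk_surjective (x * u)
      have hgA : g ∉ P.comp g0 := hne (fun e => by
        have := hord x hx
        rw [← hg, e, orderOf_one] at this
        exact hp.ne_one this.symm)
      have hgp : g ^ p = 1 := by
        rw [← hord x hx, ← hg, P.orderOf_mk h1 hgA, pow_orderOf_eq_one]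
      have hvgA : v.1 * g ∉ P.comp g0 := fun h => hgA (by simpa using mul_mem (inv_mem v.2.1) h)
      have hvgp : (v.1 * g) ^ p = 1 := by
        have : orderOf (v.1 * g) = p := by
          rw [← P.orderOf_mk h1 hvgA, QuotientGroup.mk_mul, (QuotientGroup.eq_one_iff v.1).2 v.2.1,
            one_mul, hg, hord x hx]
        rw [← this, pow_orderOf_eq_one]
      have := mul_pow_eq_prod V.subtype (φ.comp (QuotientGroup.mk' _)) hφ v g p
      rw [Subgroup.subtype_apply, hvgp, hgp, mul_one] at this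
      rw [← hg]
      exact Subtype.ext this.symm
    · obtain ⟨k, hk, hk1⟩ := (bot_or_exists_ne_one K).resolve_left hK
      exact hf k hk1 (fun e => hKp (e ▸ orderOf_dvd_natCard _ hk)) v (hfix k hk)
    · have h2 : v ^ p = 1 := Subtype.ext v.2.2.2
      have := pow_gcd_eq_one.2 ⟨h2, hv'⟩
      rwa [hp.coprime_iff_not_dvd.2 hKp, pow_one] at this
  exact ⟨hQ, fun q hq => hQ.mem_pCore hp φ
    (fun s hs hsp => hf s (fun e => by rw [e, orderOf_one] at hs; exact Nat.not_prime_one hs) hsp) hq⟩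

include P in
theorem normal_component (h1 : g0 ≠ 1) :
    (∃ p : ℕ, p.Prime ∧ Subgroup.closure {g : G | g ^ p ≠ 1} ≠ ⊤) ∨
    (∃ H : Subgroup G, Cfsg.IsFrobeniusComplement H) := by
  classical
  have hA0 : P.comp g0 ≠ ⊥ := fun e => h1 (mem_bot.1 (e ▸ P.mem g0))
  by_cases hpair : ∀ a ∈ P.comp g0, a ≠ 1 → ∀ y, Commute a y → y ∈ P.comp g0
  · exact Or.inr (frobenius_of_kernel hA0 (P.ne_top h1) hpair)
  push Not at hpair
  obtain ⟨a, ha, ha1, y, hay, hy⟩ := hpair
  obtain ⟨hb, hoy⟩ := P.bad_of_commute h1 ha ha1 hy hay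
  generalize orderOf a = p at hb hoy
  have hp := hb.1
  haveI := Fact.mk hp
  set R := pCore p (G ⧸ P.comp g0) with hR
  have hyR : (y : G ⧸ P.comp g0) ∈ R := (P.bad_local h1 hb).2 _ ((P.orderOf_mk h1 hy).trans hoy)
  have hRout : ∀ x : G, x ∉ P.comp g0 → (x : G ⧸ P.comp g0) ∈ R → orderOf x = p := by
    intro x hx hxR
    obtain ⟨k, hk⟩ := CfsgLib.Core.isPGroup_pCore p (G ⧸ P.comp g0) ⟨_, hxR⟩
    have hk' : (x : G ⧸ P.comp g0) ^ p ^ k = 1 := congrArg Subtype.val hk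
    obtain ⟨m, -, hm⟩ := (Nat.dvd_prime_pow hp).1 (orderOf_dvd_of_pow_eq_one hk')
    rw [P.orderOf_mk h1 hx] at hm
    refine P.orderOf_eq_of_dvd h1 hb hx (hm ▸ dvd_pow_self p fun e => hx ?_)
    rw [e, pow_zero] at hm
    exact orderOf_eq_one_iff.1 hm ▸ one_mem _
  by_cases hQp : IsPGroup p (G ⧸ P.comp g0)
  · refine Or.inl ⟨p, hp, fun e => P.ne_top h1 (top_le_iff.1 (e ▸ (closure_le _).2 ?_))⟩
    intro x hx
    by_contra hxA
    obtain ⟨k, hk⟩ := hQp (x : G ⧸ P.comp g0)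
    obtain ⟨m, -, hm⟩ := (Nat.dvd_prime_pow hp).1 (orderOf_dvd_of_pow_eq_one hk)
    rw [P.orderOf_mk h1 hxA] at hm
    have hm0 : m ≠ 0 := fun e => hxA (by
      rw [e, pow_zero] at hm; exact orderOf_eq_one_iff.1 hm ▸ one_mem _)
    exact hx (P.orderOf_eq_of_dvd h1 hb hxA (hm ▸ dvd_pow_self p hm0) ▸ pow_orderOf_eq_one x)
  set T := R.comap (QuotientGroup.mk' (P.comp g0)) with hT
  have hAT : P.comp g0 ≤ T := fun x hx => by
    rw [hT, mem_comap, QuotientGroup.mk'_apply, (QuotientGroup.eq_one_iff x).2 hx]; exact one_mem _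
  refine Or.inr (frobenius_of_kernel (A := T) (fun e => hA0 (le_bot_iff.1 (e ▸ hAT))) (fun e => ?_) ?_)
  · refine hQp fun q => ?_
    obtain ⟨g, rfl⟩ := QuotientGroup.mk_surjective q
    obtain ⟨k, hk⟩ := CfsgLib.Core.isPGroup_pCore p (G ⧸ P.comp g0)
      ⟨_, (e.symm ▸ mem_top g : g ∈ T)⟩
    exact ⟨k, congrArg Subtype.val hk⟩
  intro x hxT hx1 z hxz
  by_contra hzT
  have hzA : z ∉ P.comp g0 := fun h => hzT (hAT h)
  have hzp : ¬ p ∣ orderOf z := fun hd => hzT ((P.bad_local h1 hb).2 _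
    ((P.orderOf_mk h1 hzA).trans (P.orderOf_eq_of_dvd h1 hb hzA hd)))
  by_cases hxA : x ∈ P.comp g0
  · obtain ⟨hbs, hzs⟩ := P.bad_of_commute h1 hxA hx1 hzA hxz
    generalize orderOf x = s at hbs hzs
    refine (P.bad_local h1 hbs).1.noNorm (z : G ⧸ P.comp g0) ((P.orderOf_mk h1 hzA).trans hzs) R
      (fun e => hy ?_) ?_ (by rw [Subgroup.normalizer_eq_top]; exact mem_top _)
    · exact (QuotientGroup.eq_one_iff y).1 (mem_bot.1 (e ▸ hyR))
    · obtain ⟨n, hn⟩ := IsPGroup.iff_card.1 (CfsgLib.Core.isPGroup_pCore p (G ⧸ P.comp g0))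
      rw [hn]
      intro hd
      exact hzp (((Nat.prime_dvd_prime_iff_eq hbs.1 hp).1 (hbs.1.dvd_of_dvd_pow hd)) ▸ hzs.symm ▸ dvd_rfl)
  · have hox : orderOf x = p := hRout x hxA hxT
    have hco : (orderOf x).Coprime (orderOf z) := hox ▸ hp.coprime_iff_not_dvd.2 hzp
    have hxzA : x * z ∉ P.comp g0 := fun h => hzT (by
      have := mul_mem (inv_mem hxT) (hAT h)
      simpa using this)
    have ho := hxz.orderOf_mul_eq_mul_orderOf_of_coprime hco
    have := P.orderOf_eq_of_dvd h1 hb hxzA (ho ▸ hox.symm ▸ dvd_mul_right p _)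
    rw [ho, hox] at this
    exact hzA (orderOf_eq_one_iff.1 ((Nat.mul_eq_left hp.ne_zero).1 this) ▸ one_mem _)

end Pn

end CfsgLib.Partition
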