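import Cfsg.Agent.Lib.Partition.Basic
import Cfsg.Agent.Lib.Known.AutPSL.Structure

/-!
# Groups between a simple group and its automorphism group

* `Almost G H`: `G` acts faithfully on `H`, with an inclusion of `H` acting by inner automorphisms.
* `Almost.psl_or_pgl`: if no element induces a field automorphism of `PSL(2, F)`, then `G` is `PSL(2, F)`
  or `PGL(2, F)`.
-/

set_option autoImplicit false

open Subgroup Matrix CfsgLib.Known.AutPSL

namespace CfsgLib.Partition

/-- A faithful action of `G` on `H` extending the inner automorphisms of a copy of `H` in `G`. -/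
structure Almost (G : Type*) [Group G] (H : Type*) [Group H] where
  /-- The action. -/
  act : G →* MulAut H
  /-- The copy of `H`. -/
  inc : H →* G
  act_injective : Function.Injective act
  act_inc : ∀ x, act (inc x) = MulAut.conj x

namespace Almost

variable {G : Type*} [Group G] {H : Type*} [Group H] (a : Almost G H)

theorem conj_inc (g : G) (x : H) : g * a.inc x * g⁻¹ = a.inc (a.act g x) := by
  refine a.act_injective ?_
  rw [map_mul, map_mul, map_inv, a.act_inc, a.act_inc]
  ext y
  simp [MulAut.conj_apply]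

theorem commute_of_fixed {g : G} {x : H} (h : a.act g x = x) : Commute g (a.inc x) :=
  mul_inv_eq_iff_eq_mul.1 ((a.conj_inc g x).trans (by rw [h]))

theorem eq_inc {g : G} {x : H} (h : a.act g = MulAut.conj x) : g = a.inc x :=
  a.act_injective (h.trans (a.act_inc x).symm)

theorem inc_injective (hZ : center H = ⊥) : Function.Injective a.inc := by
  intro x y h
  have e : MulAut.conj x = MulAut.conj y := by rw [← a.act_inc, ← a.act_inc, h]
  have : x⁻¹ * y ∈ center H := mem_center_iff.2 fun g => by
    have := DFunLike.congr_fun e (x⁻¹ * g * x)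
    simp only [MulAut.conj_apply] at this
    calc g * (x⁻¹ * y) = x⁻¹ * (x * (x⁻¹ * (x * g * x⁻¹) * x) * x⁻¹) * y := by group
      _ = x⁻¹ * y * g := by
        have h2 := DFunLike.congr_fun e g
        simp only [MulAut.conj_apply] at h2
        rw [show x * (x⁻¹ * (x * g * x⁻¹) * x) * x⁻¹ = x * g * x⁻¹ by group, h2]
        group
  rw [hZ, mem_bot, inv_mul_eq_one] at this
  exact this

/-- The almost simple structure of a group over a normal subgroup with trivial centraliser. -/
def ofNormal (L : Subgroup G) [L.Normal] (hC : centralizer (L : Set G) = ⊥) (e : L ≃* H) : Almost G H where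
  act := (MulAut.congr e).toMonoidHom.comp MulAut.conjNormal
  inc := L.subtype.comp e.symm.toMonoidHom
  act_injective := by
    refine (injective_iff_map_eq_one _).2 fun g hg => ?_
    have h1 : (MulAut.conjNormal g : MulAut L) = 1 := (MulAut.congr e).injective (hg.trans (map_one _).symm)
    refine mem_bot.1 (hC ▸ mem_centralizer_iff.2 fun x hx => ?_)
    have := congrArg Subtype.val (DFunLike.congr_fun h1 ⟨x, hx⟩)
    rw [MulAut.conjNormal_apply] at this
    exact (mul_inv_eq_iff_eq_mul.1 this).symm
  act_inc x := by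
    ext y
    show e ((MulAut.conjNormal ((e.symm x : L) : G) : MulAut L) (e.symm y)) = _
    rw [MulAut.conjNormal_val, MulAut.conj_apply, MulAut.conj_apply]
    simp

theorem ofNormal_range (L : Subgroup G) [L.Normal] (hC : centralizer (L : Set G) = ⊥) (e : L ≃* H) :
    (ofNormal L hC e).inc.range = L := by
  show (L.subtype.comp e.symm.toMonoidHom).range = L
  rw [MonoidHom.range_comp, MonoidHom.range_eq_top.2 e.symm.surjective, ← MonoidHom.range_eq_map, L.range_subtype]

end Almost

section PSL

variable {F : Type*} [Field F] [Fintype F]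

theorem semilin_eq_mul (h : GL (Fin 2) F) (σ : F ≃+* F) :
    semilin h σ = semilin h (RingEquiv.refl F) * semilin 1 σ := by
  rw [semilin_mul, map_one, mul_one]
  congr 1

/-- Squares have index at most two. -/
theorem sq_div_of_not_sq {a b : Fˣ} (ha : a ∉ (powMonoidHom 2 : Fˣ →* Fˣ).range)
    (hb : b ∉ (powMonoidHom 2 : Fˣ →* Fˣ).range) : a * b⁻¹ ∈ (powMonoidHom 2 : Fˣ →* Fˣ).range := by
  have h := index_powMonoidHom_range (F := F) 2
  rcases (Nat.dvd_prime Nat.prime_two).1 (Nat.gcd_dvd_left 2 (Fintype.card F - 1)) with h' | h'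
  · rw [h', index_eq_one] at h
    exact absurd (h ▸ mem_top a) ha
  · rw [h'] at h
    exact (mul_mem_iff_of_index_two h).2 (iff_of_false ha fun hm => hb (inv_mem_iff.1 hm))

namespace Almost

variable {G : Type*} [Group G] (a : Almost G (PSL 2 F))

/-- The diagonal class of an element can be moved by inner automorphisms. -/
theorem exists_change {g : G} {h h' : GL (Fin 2) F} {σ : F ≃+* F} (hg : a.act g = semilin h σ)
    (hd : GeneralLinearGroup.det h' * (GeneralLinearGroup.det h)⁻¹ ∈ (powMonoidHom 2 : Fˣ →* Fˣ).range) :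
    ∃ s : G, a.act s = semilin h' σ := by
  obtain ⟨c, hc⟩ := hd
  have hinn : mkAut (h' * h⁻¹) (RingEquiv.refl F) false ∈ Cfsg.Inn (PSL 2 F) :=
    (mem_inn_iff le_rfl _ _ _ fun _ => rfl).2 ⟨rfl, rfl, c, by rw [map_mul, map_inv]; exact hc.symm⟩
  obtain ⟨x, hx⟩ := hinn
  refine ⟨a.inc x * g, ?_⟩
  rw [map_mul, a.act_inc, hg, hx, mkAut_false, semilin_mul]
  congr 1
  rw [show glMap (RingEquiv.refl F) h = h from Units.ext (by ext i j; rfl), inv_mul_cancel_right]

theorem psl_or_pgl (hZ : center (PSL 2 F) = ⊥) (h : ∀ g : G, ∃ m : GL (Fin 2) F, a.act g = innDiag 2 F m) :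
    Function.Surjective a.inc ∧ Function.Injective a.inc ∨
      (Odd (Fintype.card F) ∧ Nonempty (G ≃* (GL (Fin 2) F ⧸ center (GL (Fin 2) F)))) := by
  classical
  by_cases hsq : ∀ g : G, ∀ m : GL (Fin 2) F, a.act g = innDiag 2 F m →
      GeneralLinearGroup.det m ∈ (powMonoidHom 2 : Fˣ →* Fˣ).range
  · refine Or.inl ⟨fun g => ?_, a.inc_injective hZ⟩
    obtain ⟨m, hm⟩ := h g
    obtain ⟨c, hc⟩ := hsq g m hm
    obtain ⟨x, hx⟩ := (mem_inn_iff le_rfl m (RingEquiv.refl F) false fun _ => rfl).2 ⟨rfl, rfl, c, hc.symm⟩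
    exact ⟨x, (a.eq_inc (by rw [hx, mkAut_false]; exact hm)).symm⟩
  push Not at hsq
  obtain ⟨g0, m0, hm0, hns⟩ := hsq
  refine Or.inr ⟨?_, ?_⟩
  · rw [← Nat.not_even_iff_odd]
    intro hev
    obtain ⟨c, hc⟩ := FiniteField.isSquare_of_char_two
      (FiniteField.even_card_iff_char_two.2 (Nat.even_iff.1 hev)) ((GeneralLinearGroup.det m0 : Fˣ) : F)
    have hc0 : c ≠ 0 := fun e => (GeneralLinearGroup.det m0).ne_zero (by rw [hc, e, mul_zero])
    exact hns ⟨Units.mk0 c hc0, Units.ext (by simp [pow_two, hc])⟩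
  · have hrange : a.act.range = (innDiag 2 F).range := by
      refine le_antisymm ?_ ?_
      · rintro _ ⟨g, rfl⟩
        obtain ⟨m, hm⟩ := h g
        exact ⟨m, hm.symm⟩
      · rintro _ ⟨m, rfl⟩
        by_cases hm : GeneralLinearGroup.det m ∈ (powMonoidHom 2 : Fˣ →* Fˣ).range
        · obtain ⟨s, hs⟩ := a.exists_change (g := 1) (h := 1) (h' := m) (σ := RingEquiv.refl F)
            (by rw [map_one, semilin_one]) (by rwa [map_one, inv_one, mul_one])
          exact ⟨s, hs⟩
        · obtain ⟨s, hs⟩ := a.exists_change (h' := m) hm0 (sq_div_of_not_sq hm hns)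
          exact ⟨s, hs⟩
    have hker : (innDiag 2 F).ker = center (GL (Fin 2) F) := by
      ext m
      rw [MonoidHom.mem_ker, innDiag_apply, semilin_eq_one_iff le_rfl, and_iff_right rfl,
        GeneralLinearGroup.mem_center_iff_val_mem_range_scalar]
      simp only [Set.mem_range, Matrix.scalar_apply]
      refine ⟨?_, ?_⟩ <;> rintro ⟨c, hc⟩ <;> refine ⟨c, ?_⟩
      · rw [hc]; ext i j; by_cases hij : i = j <;> simp [hij]
      · rw [← hc]; ext i j; by_cases hij : i = j <;> simp [hij]
    exact ⟨(MonoidHom.ofInjective a.act_injective).trans ((MulEquiv.subgroupCongr hrange).trans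
      ((QuotientGroup.quotientKerEquivRange (innDiag 2 F)).symm.trans (QuotientGroup.quotientMulEquivOfEq hker)))⟩

end Almost

end PSL

end CfsgLib.Partition
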