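import Cfsg.Agent.Lib.Partition.Involutions
import Cfsg.Agent.Lib.Partition.NormalComponent
import Cfsg.Agent.Lib.CIT.FrobeniusSystemMain
import Cfsg.Agent.Lib.Core.UniqueOrderP
import Cfsg.Agent.Lib.TwoGroups.Recognition
import Cfsg.Agent.S0508

/-!
# Simple groups with a partition: an involution whose centraliser leaves its component

`Pn.split_case`: such a group is `PSL(2, q)` for odd `q` (and commuting involutions have different
components), or `SL(2, 2ⁿ)`, or a Suzuki group.
-/

set_option autoImplicit false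

open Cfsg Subgroup

namespace CfsgLib.Partition

universe u

variable {G : Type u} [Group G]

/-- Distinct commuting involutions lie in distinct components. -/
def Pn.Sep (P : Pn G) : Prop :=
  ∀ x y : G, orderOf x = 2 → orderOf y = 2 → x ≠ y → Commute x y → P.comp x ≠ P.comp y

/-- The Sylow 2-subgroup of a normalised subgroup. -/
theorem not_two_dvd_index [Finite G] (S : Sylow 2 G) {A : Subgroup G}
    (h : (S : Subgroup G) ≤ normalizer (A : Set G)) : ¬ 2 ∣ ((S : Subgroup G).subgroupOf A).index := by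
  haveI : Fact (Nat.Prime 2) := ⟨Nat.prime_two⟩
  intro hd
  have h1 := CfsgLib.Core.card_sup_mul_card_inf (S : Subgroup G) A h
  have h2 : ((S : Subgroup G).subgroupOf A).index * Nat.card ↥((S : Subgroup G) ⊓ A) = Nat.card A := by
    have := ((S : Subgroup G).subgroupOf A).index_mul_card
    rwa [← inf_subgroupOf_right, Nat.card_congr (subgroupOfEquivOfLe (inf_le_right : (S : Subgroup G) ⊓ A ≤ A)).toEquiv,
      inf_subgroupOf_right] at this
  rw [← h2, ← mul_assoc] at h1
  have h3 := Nat.eq_of_mul_eq_mul_right Nat.card_pos h1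
  have h4 : Nat.card (S : Subgroup G) * ((S : Subgroup G).subgroupOf A).index ∣
      Nat.card (S : Subgroup G) * (S : Subgroup G).index := by
    rw [← h3, card_mul_index]
    exact card_subgroup_dvd_card _
  exact S.not_dvd_index (hd.trans (Nat.dvd_of_mul_dvd_mul_left Nat.card_pos h4))

namespace Pn

variable [Finite G] (P : Pn G)

theorem exists_central_involution {z0 u0 : G} (hz0 : orderOf z0 = 2) (hc : Commute z0 u0)
    (hu0 : u0 ∉ P.comp z0) :
    ∃ (S : Sylow 2 G) (z u : G), orderOf z = 2 ∧ z ∈ (S : Subgroup G) ∧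
      (∀ s ∈ (S : Subgroup G), Commute z s) ∧ u ∈ (S : Subgroup G) ∧ u ∉ P.comp z := by
  haveI : Fact (Nat.Prime 2) := ⟨Nat.prime_two⟩
  have hu2 := P.outside_sq hz0 hc hu0
  have hp : ∀ {x : G}, orderOf x = 2 → IsPGroup 2 (zpowers x) := fun hx =>
    IsPGroup.of_card (n := 1) (by rw [Nat.card_zpowers, hx, pow_one])
  have hn : zpowers u0 ≤ normalizer ((zpowers z0 : Subgroup G) : Set G) := zpowers_le.2
    (centralizer_le_normalizer _ (by
      rw [mem_centralizer_iff]
      rintro x ⟨n, rfl⟩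
      exact (hc.zpow_left n).eq))
  obtain ⟨S, hS⟩ := ((hp hu2).to_sup_of_normal_right' (hp hz0) hn).exists_le_sylow
  haveI : Group.IsNilpotent (S : Subgroup G) := S.isPGroup'.isNilpotent
  have hz0S : z0 ∈ (S : Subgroup G) := hS (mem_sup_right (mem_zpowers z0))
  have hu0S : u0 ∈ (S : Subgroup G) := hS (mem_sup_left (mem_zpowers u0))
  obtain ⟨z, hz, hzo⟩ := exists_central_orderOf_eq (G := (S : Subgroup G)) (p := 2) (by
    have h2 := orderOf_dvd_natCard (⟨z0, hz0S⟩ : (S : Subgroup G))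
    rwa [Subgroup.orderOf_mk, hz0] at h2)
  have hzc : ∀ s ∈ (S : Subgroup G), Commute z.1 s := fun s hs =>
    (congrArg Subtype.val (mem_center_iff.1 hz ⟨s, hs⟩)).symm
  have hz2 : orderOf z.1 = 2 := by rw [orderOf_coe]; exact hzo
  have hz1 : z.1 ≠ 1 := fun h => by rw [h, orderOf_one] at hz2; omega
  have h01 : z0 ≠ 1 := fun h => by rw [h, orderOf_one] at hz0; omega
  have hu01 : u0 ≠ 1 := fun h => hu0 (h ▸ one_mem _)
  by_cases h : z0 ∈ P.comp z.1
  · refine ⟨S, z.1, u0, hz2, z.2, hzc, hu0S, fun h' => hu0 ?_⟩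
    rw [P.eq_of_mem hz1 h01 h, ← P.eq_of_mem hz1 hu01 h']
    exact P.mem u0
  · exact ⟨S, z.1, z0, hz2, z.2, hzc, hz0S, h⟩

/-- All involutions conjugate to `z`, the only involution in `C(z) ∩ comp z`. -/
theorem sep_of_unique {z : G} (huniq : ∀ e ∈ P.dd z, e * e = 1 → e = 1 ∨ e = z)
    (hconj : ∀ v : G, orderOf v = 2 → ∃ g : G, g * v * g⁻¹ = z) : P.Sep := by
  intro x y hx hy hne hc heq
  obtain ⟨g, hg⟩ := hconj x hx
  have h := P.conj_mem_dd g (P.mem_dd.2 ⟨hc.symm, heq ▸ P.mem y⟩ : y ∈ P.dd x)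
  rw [hg] at h
  have hy2 : (g * y * g⁻¹) * (g * y * g⁻¹) = 1 := by
    rw [← pow_two, conj_pow, orderOf_dvd_iff_pow_eq_one.1 hy.dvd, mul_one, mul_inv_cancel]
  rcases huniq _ h hy2 with h1 | h1
  · have : y = 1 := by simpa using h1
    rw [this, orderOf_one] at hy; omega
  · rw [← hg] at h1
    exact hne (by simpa using h1.symm)

theorem conj_of_sylow [IsSimpleGroup G] (S : Sylow 2 G) {z : G}
    (huniq : ∀ e ∈ P.dd z, e * e = 1 → e = 1 ∨ e = z) (hzS : ∀ s ∈ (S : Subgroup G), Commute z s)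
    (hconj : ∀ v ∈ (S : Subgroup G), v ∉ P.comp z → ∃ g : G, g * v * g⁻¹ = z) :
    ∀ v : G, orderOf v = 2 → ∃ g : G, g * v * g⁻¹ = z := by
  intro v hv
  haveI : Fact (Nat.Prime 2) := ⟨Nat.prime_two⟩
  obtain ⟨T, hT⟩ := (IsPGroup.of_card (n := 1) (by rw [Nat.card_zpowers, hv, pow_one]) :
    IsPGroup 2 (zpowers v)).exists_le_sylow
  obtain ⟨c, hc⟩ := MulAction.exists_smul_eq G T S
  have h1 : MulAut.conj c v ∈ (S : Subgroup G) := by
    rw [← hc, Sylow.smul_def, Sylow.pointwise_smul_def]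
    exact smul_mem_pointwise_smul _ _ _ (hT (mem_zpowers v))
  rw [MulAut.conj_apply] at h1
  have h2 : (c * v * c⁻¹) * (c * v * c⁻¹) = 1 := by
    rw [← pow_two, conj_pow, orderOf_dvd_iff_pow_eq_one.1 hv.dvd, mul_one, mul_inv_cancel]
  by_cases hm : c * v * c⁻¹ ∈ P.comp z
  · rcases huniq _ (P.mem_dd.2 ⟨(hzS _ h1).symm, hm⟩) h2 with h | h
    · have : v = 1 := by simpa using h
      rw [this, orderOf_one] at hv; omega
    · exact ⟨c, h⟩
  · obtain ⟨g, hg⟩ := hconj _ h1 hm
    exact ⟨g * c, by rw [← hg]; group⟩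

/-- The nonelementary case. -/
theorem psl_of_nonelementary [IsSimpleGroup G] (hna : ¬ IsMulCommutative G) (S : Sylow 2 G) {z u : G}
    (hz : orderOf z = 2) (hzS : z ∈ (S : Subgroup G)) (hzc : ∀ s ∈ (S : Subgroup G), Commute z s)
    (huS : u ∈ (S : Subgroup G)) (huc : u ∉ P.comp z) {d : G} (hd : d ∈ P.dd z) (hd2 : d * d ≠ 1) :
    (∃ (F : Type) (_ : Field F) (_ : Fintype F), Odd (Fintype.card F) ∧
        Nonempty (G ≃* Matrix.ProjectiveSpecialLinearGroup (Fin 2) F)) ∧ P.Sep := by
  classical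
  haveI : Fact (Nat.Prime 2) := ⟨Nat.prime_two⟩
  obtain ⟨-, huniq, hconj⟩ := P.nonelementary hna S hz hzc (hzc u huS) huc hd hd2
  refine ⟨?_, P.sep_of_unique huniq (P.conj_of_sylow S huniq hzc hconj)⟩
  have hz1 : z ≠ 1 := fun h => by rw [h, orderOf_one] at hz; omega
  have hu2 := P.outside_sq hz (hzc u huS) huc
  have huu : u * u = 1 := by rw [← pow_two, orderOf_dvd_iff_pow_eq_one.1 hu2.dvd]
  have hinv := fun {x : G} (hx : x ∈ P.dd z) => P.inverts_dd hz (hzc u huS) huc hx
  -- `S` is dihedral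
  set T := (S : Subgroup G) ⊓ P.dd z with hT
  have hzT : z ∈ T := ⟨hzS, P.mem_dd.2 ⟨Commute.refl z, P.mem z⟩⟩
  haveI : IsMulCommutative T :=
    ⟨⟨fun a b => Subtype.ext (P.dd_comm hz (hzc u huS) huc a.2.2 b.2.2).eq⟩⟩
  have hTcyc : IsCyclic T := by
    have hTp : IsPGroup 2 T := S.isPGroup'.to_le inf_le_left
    have key : ∀ H : Subgroup T, Nat.card H = 2 → H = zpowers (⟨z, hzT⟩ : T) := by
      intro H hH
      obtain ⟨x, hx⟩ := exists_prime_orderOf_dvd_card' (G := H) 2 (hH ▸ dvd_rfl)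
      have hx2 : orderOf ((x : T) : G) = 2 := by rw [orderOf_coe, orderOf_coe, hx]
      have hxz : (x : T) = ⟨z, hzT⟩ := by
        rcases huniq _ x.1.2.2 (by rw [← pow_two, orderOf_dvd_iff_pow_eq_one.1 hx2.dvd]) with h | h
        · rw [h, orderOf_one] at hx2; omega
        · exact Subtype.ext h
      refine (Subgroup.eq_of_le_of_card_ge (zpowers_le.2 (hxz ▸ x.2)) ?_).symm
      rw [hH, Nat.card_zpowers, Subgroup.orderOf_mk, hz]
    haveI : IsMulCommutative (⊤ : Subgroup T) := ⟨⟨fun a b => Subtype.ext (mul_comm' (a : T) b)⟩⟩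
    haveI := CfsgLib.Core.UniqueOrderP.isCyclic_of_unique hTp
      (fun H K hH hK => (key H hH).trans (key K hK).symm) (⊤ : Subgroup T)
    exact isCyclic_of_surjective (topEquiv (G := T)).toMonoidHom (MulEquiv.surjective _)
  obtain ⟨a, ha⟩ := hTcyc.exists_generator
  have hcardT : orderOf a = Nat.card T := orderOf_eq_card_of_forall_mem_zpowers ha
  have hrel : ((P.dd z).subgroupOf (S : Subgroup G)).index = 2 := by
    rw [index_eq_two_iff]
    refine ⟨⟨u, huS⟩, fun b => ?_⟩
    simp only [mem_subgroupOf, Subgroup.coe_mul]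
    by_cases hbd : b.1 ∈ P.dd z
    · exact Or.inr ⟨hbd, fun h => huc (P.mem_dd.1 (by simpa using mul_mem (inv_mem hbd) h : u ∈ P.dd z)).2⟩
    · exact Or.inl ⟨P.mul_mem_dd hz (hzc b.1 b.2) (fun h => hbd (P.mem_dd.2 ⟨(hzc b.1 b.2).symm, h⟩))
        (hzc u huS) huc hd hd2, hbd⟩
  have hcardS : Nat.card (S : Subgroup G) = 2 * Nat.card T := by
    have := ((P.dd z).subgroupOf (S : Subgroup G)).index_mul_card
    rw [← inf_subgroupOf_left, Nat.card_congr (subgroupOfEquivOfLe (inf_le_left : (S : Subgroup G) ⊓ P.dd z ≤ S)).toEquiv,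
      inf_subgroupOf_left, hrel] at this
    exact this.symm
  have hn2 : 2 ≤ Nat.card T := by
    have := Nat.le_of_dvd Nat.card_pos (orderOf_dvd_natCard (⟨z, hzT⟩ : T))
    rwa [Subgroup.orderOf_mk, hz] at this
  haveI : NeZero (Nat.card T) := ⟨by omega⟩
  have hdi : Nonempty ((S : Subgroup G) ≃* DihedralGroup (Nat.card T)) := by
    refine CfsgLib.TwoGroups.nonempty_mulEquiv_dihedralGroup (a := (⟨a.1, a.2.1⟩ : (S : Subgroup G)))
      (b := ⟨u, huS⟩) ?_ (Subtype.ext huu) ?_ (Subtype.ext (hinv a.2.2)) hcardS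
    · rw [Subgroup.orderOf_mk, orderOf_coe, hcardT]
    · intro h
      obtain ⟨k, hk⟩ := mem_zpowers_iff.1 h
      refine huc (P.mem_dd.1 ?_).2
      have : a.1 ^ k = u := congrArg Subtype.val hk
      exact this ▸ zpow_mem (show (a : G) ∈ P.dd z from a.2.2) k
  set C := centralizer ({z} : Set G) with hC
  set O := (oddCore C).map C.subtype with hO
  have hOodd : ∀ y ∈ O, Odd (orderOf y) := by
    rintro _ ⟨y, hy, rfl⟩
    rw [Subgroup.subtype_apply, orderOf_coe]
    have h1 : (Nat.card (oddCore C)).Coprime 2 := CfsgLib.Core.coprime_card_pPrimeCore 2 C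
    exact Nat.Coprime.odd_of_right (h1.coprime_dvd_left (orderOf_dvd_natCard _ hy))
  have hOC : O ≤ C := map_subtype_le _
  have hOdd : ∀ y ∈ O, y ∈ P.dd z := fun y hy => by
    have hyz : Commute y z := mem_centralizer_singleton_iff.1 (hOC hy)
    refine P.mem_dd.2 ⟨hyz, by_contra fun h => ?_⟩
    have := hOodd y hy
    rw [P.outside_sq hz hyz.symm h] at this
    exact absurd this (by decide)
  have hsplit : ∀ s ∈ (S : Subgroup G), s ∉ P.dd z → ∀ y ∈ O, s * y * s⁻¹ = y⁻¹ := fun s hs hsd y hy =>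
    P.inverts_dd hz (hzc s hs) (fun h => hsd (P.mem_dd.2 ⟨(hzc s hs).symm, h⟩)) (hOdd y hy)
  have hTcent : ∀ s ∈ T, s ∈ centralizer (O : Set G) := fun s hs =>
    mem_centralizer_iff.2 fun y hy => (P.dd_comm hz (hzc u huS) huc (hOdd y hy) hs.2).eq
  -- `comp z` is contained in `C(z)`
  have hnormA : normalizer (P.comp z : Set G) ≤ C := by
    have hSN : (S : Subgroup G) ≤ normalizer (P.comp z : Set G) := fun s hs =>
      P.mem_normalizer_of_commute hz1 hz1 (P.mem z) (hzc s hs).symm
    have hA2 := not_two_dvd_index S hSN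
    let A := P.comp z
    let SA : Sylow 2 A := IsPGroup.toSylow (S.isPGroup'.comap_of_injective A.subtype A.subtype_injective) hA2
    have hSA : ∀ x ∈ (SA : Subgroup A), x.1 ∈ T := fun x hx =>
      ⟨hx, P.mem_dd.2 ⟨(hzc _ hx).symm, x.2⟩⟩
    haveI : IsCyclic (SA : Subgroup A) := by
      let f : (SA : Subgroup A) →* T :=
        { toFun := fun x => ⟨x.1.1, hSA x.1 x.2⟩, map_one' := rfl, map_mul' := fun _ _ => rfl }
      exact isCyclic_of_injective f fun x y e => Subtype.ext (Subtype.ext (congrArg Subtype.val e : _))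
    have hmin : (Nat.card A).minFac = 2 := by
      rw [Nat.minFac_eq_two_iff, ← hz, ← Subgroup.orderOf_mk z (P.mem z)]
      exact orderOf_dvd_natCard _
    have hle := IsCyclic.normalizer_le_centralizer hmin (inferInstance : IsCyclic (SA : Subgroup A))
    set W := (MonoidHom.transferSylow SA hle).ker with hW
    have hWS := MonoidHom.ker_transferSylow_isComplement' SA hle
    have hWodd : ∀ w ∈ W, Odd (orderOf (w : G)) := fun w hw => by
      rw [orderOf_coe]
      exact Nat.Coprime.odd_of_right ((Nat.prime_two.coprime_iff_not_dvd.2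
        (MonoidHom.not_dvd_card_ker_transferSylow SA hle)).symm.coprime_dvd_left (orderOf_dvd_natCard _ hw))
    set W' := W.map A.subtype with hW'
    have hodd : ∀ x ∈ A, Odd (orderOf x) → x ∈ W' := fun x hx ho => by
      refine ⟨⟨x, hx⟩, MonoidHom.mem_ker.2 (orderOf_eq_one_iff.1 ?_), rfl⟩
      obtain ⟨k, hk⟩ := IsPGroup.iff_card.1 SA.isPGroup'
      have h1 := (orderOf_dvd_natCard (MonoidHom.transferSylow SA hle ⟨x, hx⟩)).trans hk.dvd
      have h2 := orderOf_map_dvd (MonoidHom.transferSylow SA hle) ⟨x, hx⟩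
      exact Nat.eq_one_of_dvd_coprimes ((Nat.coprime_two_left.2 ho).pow_left k) h1
        (h2.trans (Subgroup.orderOf_mk x hx).dvd)
    have hWz : ∀ w ∈ W', Commute z w := by
      have hinvW : ∀ v ∈ (S : Subgroup G), v ∉ A → ∀ w ∈ W', v * w * v⁻¹ = w⁻¹ := by
        intro v hv hvA
        have hv2 := P.outside_sq hz (hzc v hv) hvA
        have hv1 : v ≠ 1 := fun h => hvA (h ▸ one_mem _)
        refine inverts_of_fpf (by rw [← pow_two, orderOf_dvd_iff_pow_eq_one.1 hv2.dvd]) ?_ ?_
        · rintro _ ⟨w, hw, rfl⟩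
          refine hodd _ ((mem_normalizer_iff.1 (hSN hv) _).1 w.2) ?_
          rw [← MulAut.conj_apply, MulEquiv.orderOf_eq]
          exact hWodd w hw
        · rintro _ ⟨w, hw, rfl⟩ hc
          by_contra hw1
          have hne : orderOf (w : G) ≠ orderOf v := fun e => by
            have := hWodd w hw; rw [e, hv2] at this; exact absurd this (by decide)
          have heq := P.eq_of_common hv1 hz1 hw1 (P.mem_of_orderOf_ne hv1 hne hc) w.2
          exact hvA (show v ∈ P.comp z from heq ▸ P.mem v)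
      intro w hw
      have huzA : u * z ∉ A := fun h => huc (by simpa [A, mul_assoc] using mul_mem h (inv_mem (P.mem z)))
      have h1 := hinvW _ (mul_mem huS hzS) huzA w hw
      have h2 := hinvW u huS huc w hw
      refine mul_inv_eq_iff_eq_mul.1 ?_
      calc z * w * z⁻¹ = u⁻¹ * ((u * z) * w * (u * z)⁻¹) * u := by group
        _ = u⁻¹ * (u * w * u⁻¹) * u := by rw [h1, h2]
        _ = w := by group
    have hA : ∀ x ∈ A, Commute z x := fun x hx => by
      obtain ⟨⟨⟨w, hw⟩, ⟨s, hs⟩⟩, e⟩ := hWS.surjective ⟨x, hx⟩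
      have e' : (w : G) * s = x := congrArg Subtype.val e
      exact e' ▸ (hWz w (mem_map_of_mem _ hw)).mul_right (hzc _ hs)
    intro n hn
    have hm := (mem_normalizer_iff.1 hn z).1 (P.mem z)
    have h2 : (n * z * n⁻¹) * (n * z * n⁻¹) = 1 := by
      rw [← pow_two, conj_pow, orderOf_dvd_iff_pow_eq_one.1 hz.dvd, mul_one, mul_inv_cancel]
    rcases huniq _ (P.mem_dd.2 ⟨(hA _ hm).symm, hm⟩) h2 with h | h
    · exact absurd (by simpa using h) hz1
    · exact mem_centralizer_singleton_iff.2 (mul_inv_eq_iff_eq_mul.1 h)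
  refine Cfsg.Agent.S0508.result S (Nat.card T) hn2 hdi z hz hzS (fun s hs => (hzc s hs).symm.eq) O hO
    (fun hOb => ?_) (fun s hs hsO y hy => hsplit s hs (fun h => hsO (hTcent s ⟨hs, h⟩)) y hy)
    fun Y hY hYb => ?_
  · obtain ⟨y, hy, hy1⟩ := (bot_or_exists_ne_one O).resolve_left hOb
    have heq : (S : Subgroup G) ⊓ centralizer (O : Set G) = T := by
      refine le_antisymm (fun s hs => ⟨hs.1, by_contra fun h => ?_⟩) fun s hs => ⟨hs.1, hTcent s hs⟩
      have h1 := hsplit s hs.1 h y hy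
      rw [← mem_centralizer_iff.1 hs.2 y hy, mul_inv_cancel_right, eq_inv_iff_mul_eq_one, ← pow_two] at h1
      have h3 := orderOf_dvd_of_pow_eq_one h1
      rcases (Nat.dvd_prime Nat.prime_two).1 h3 with h4 | h4
      · exact hy1 (orderOf_eq_one_iff.1 h4)
      · have := hOodd y hy; rw [h4] at this; exact absurd this (by decide)
    rw [heq]
    refine ⟨hTcyc, ?_⟩
    rw [hT, relIndex, inf_subgroupOf_left, hrel]
  · intro n hn
    obtain ⟨y, hy, hy1⟩ := (bot_or_exists_ne_one Y).resolve_left hYb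
    exact hnormA (P.mem_normalizer hz1 hy1 (P.mem_dd.1 (hOdd y (hY hy))).2
      (P.mem_dd.1 (hOdd _ (hY ((mem_normalizer_iff.1 hn y).1 hy)))).2)

/-- The elementary case. -/
theorem elementary_case [IsSimpleGroup G] (hna : ¬ IsMulCommutative G) (S : Sylow 2 G) {z u : G}
    (hz : orderOf z = 2) (hzS : z ∈ (S : Subgroup G)) (hzc : ∀ s ∈ (S : Subgroup G), Commute z s)
    (huS : u ∈ (S : Subgroup G)) (huc : u ∉ P.comp z) (hel : ∀ d ∈ P.dd z, d * d = 1) :
    ((∃ (F : Type) (_ : Field F) (_ : Fintype F), Odd (Fintype.card F) ∧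
        Nonempty (G ≃* Matrix.ProjectiveSpecialLinearGroup (Fin 2) F)) ∧ P.Sep) ∨
    (∃ (K : Type) (_ : Field K) (_ : Fintype K), (∃ n : ℕ, 2 ≤ n ∧ Fintype.card K = 2 ^ n) ∧
        Nonempty (G ≃* Matrix.SpecialLinearGroup (Fin 2) K)) ∨
    Cfsg.Lie.IsoSuzuki G := by
  classical
  haveI : Fact (Nat.Prime 2) := ⟨Nat.prime_two⟩
  have hz1 : z ≠ 1 := fun h => by rw [h, orderOf_one] at hz; omega
  have hu2 := P.outside_sq hz (hzc u huS) huc
  have hu1 : u ≠ 1 := fun h => huc (h ▸ one_mem _)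
  set C := centralizer ({z} : Set G) with hC
  have hCsq : ∀ c ∈ C, c * c = 1 := fun c hc => by
    have hcz : Commute c z := mem_centralizer_singleton_iff.1 hc
    by_cases h : c ∈ P.comp z
    · exact hel c (P.mem_dd.2 ⟨hcz, h⟩)
    · rw [← pow_two, orderOf_dvd_iff_pow_eq_one.1 (P.outside_sq hz hcz.symm h).dvd]
  have hSC : (S : Subgroup G) ≤ C := fun s hs => mem_centralizer_singleton_iff.2 (hzc s hs).symm.eq
  have hCS : C = (S : Subgroup G) := S.3
    (fun c => ⟨1, Subtype.ext (by rw [SubmonoidClass.coe_pow, pow_one, pow_two]; exact hCsq c.1 c.2)⟩) hSC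
  have hSsq : ∀ s ∈ (S : Subgroup G), s * s = 1 := fun s hs => hCsq s (hSC hs)
  have hScomm : ∀ a ∈ (S : Subgroup G), ∀ b ∈ (S : Subgroup G), Commute a b := fun a ha b hb => by
    show a * b = b * a
    calc a * b = (a * b)⁻¹ := (inv_eq_of_mul_eq_one_right (hSsq _ (mul_mem ha hb))).symm
      _ = b * a := by
        rw [mul_inv_rev, inv_eq_of_mul_eq_one_right (hSsq a ha), inv_eq_of_mul_eq_one_right (hSsq b hb)]
  haveI := Fintype.ofFinite (S : Subgroup G)
  by_cases hex : ∃ e ∈ (S : Subgroup G), e ≠ 1 ∧ e ≠ z ∧ e ≠ u ∧ e ≠ z * u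
  · -- strongly embedded normaliser
    refine Or.inr ?_
    obtain ⟨e3, he3, he31, he3z, he3u, he3zu⟩ := hex
    have hCe : ∀ e ∈ (S : Subgroup G), e ≠ 1 → centralizer ({e} : Set G) = (S : Subgroup G) := by
      intro e he he1
      have he2 : orderOf e = 2 := orderOf_eq_prime (by rw [pow_two]; exact hSsq e he) he1
      obtain ⟨v, hv, hvc⟩ : ∃ v ∈ (S : Subgroup G), v ∉ P.comp e := by
        by_contra hno
        push Not at hno
        exact huc (((P.eq_of_mem he1 hz1 (hno z hzS)).trans (P.eq_of_mem he1 hu1 (hno u huS)).symm) ▸ P.mem u)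
      have hec : ∀ s ∈ (S : Subgroup G), Commute e s := fun s hs => hScomm e he s hs
      have hdsq : ∀ c ∈ P.dd e, c * c = 1 := by
        by_contra hno
        push Not at hno
        obtain ⟨d, hd, hd2⟩ := hno
        obtain ⟨-, huniq, -⟩ := P.nonelementary hna S he2 hec (hec v hv) hvc hd hd2
        have key : ∀ x ∈ (S : Subgroup G), x = 1 ∨ x = e ∨ x = v ∨ x = e * v := by
          intro x hx
          by_cases hxd : x ∈ P.comp e
          · rcases huniq x (P.mem_dd.2 ⟨(hec x hx).symm, hxd⟩) (hSsq x hx) with h | h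
            · exact Or.inl h
            · exact Or.inr (Or.inl h)
          · rcases huniq (x * v) (P.mul_mem_dd he2 (hec x hx) hxd (hec v hv) hvc hd hd2)
              (hSsq _ (mul_mem hx hv)) with h | h
            · exact Or.inr (Or.inr (Or.inl (by
                rw [eq_inv_of_mul_eq_one_left h]; exact inv_eq_of_mul_eq_one_right (hSsq v hv))))
            · refine Or.inr (Or.inr (Or.inr ?_))
              rw [← h, mul_assoc, hSsq v hv, mul_one]
        have hsub : ({1, z, u, z * u, e3} : Finset G) ⊆ {1, e, v, e * v} := by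
          intro x hx
          simp only [Finset.mem_insert, Finset.mem_singleton] at hx ⊢
          refine key x ?_
          rcases hx with rfl | rfl | rfl | rfl | rfl
          exacts [one_mem _, hzS, huS, mul_mem hzS huS, he3]
        have hzu : z ≠ u := fun h => huc (h ▸ P.mem z)
        have hzu1 : z * u ≠ 1 := fun h => hzu ((eq_inv_of_mul_eq_one_left h).trans (inv_eq_of_mul_eq_one_right (hSsq u huS)))
        have hzuz : z * u ≠ z := fun h => hu1 (mul_eq_left.1 h)
        have hzuu : z * u ≠ u := fun h => hz1 (mul_eq_right.1 h)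
        have h5 : ({1, z, u, z * u, e3} : Finset G).card = 5 := by
          rw [Finset.card_insert_of_notMem (by simp [hz1.symm, hu1.symm, hzu1.symm, he31.symm]),
            Finset.card_insert_of_notMem (by simp [hzu, hzuz.symm, he3z.symm]),
            Finset.card_insert_of_notMem (by simp [hzuu.symm, he3u.symm]),
            Finset.card_insert_of_notMem (by simp [he3zu.symm]), Finset.card_singleton]
        have := (Finset.card_le_card hsub).trans Finset.card_le_four
        omega
      refine S.3 (fun c => ⟨1, Subtype.ext ?_⟩) fun s hs => mem_centralizer_singleton_iff.2 (hec s hs).symm.eq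
      rw [SubmonoidClass.coe_pow, pow_one, pow_two]
      have hce : Commute c.1 e := mem_centralizer_singleton_iff.1 c.2
      by_cases h : c.1 ∈ P.comp e
      · exact hdsq _ (P.mem_dd.2 ⟨hce, h⟩)
      · rw [← pow_two]; exact orderOf_dvd_iff_pow_eq_one.1 (P.outside_sq he2 hce.symm h).dvd
    set M := normalizer ((S : Subgroup G) : Set G) with hM
    have hSM : (S : Subgroup G) ≤ M := le_normalizer
    have hinvol : ∀ t ∈ M, orderOf t = 2 → t ∈ (S : Subgroup G) := fun t ht ho => by
      have hp : IsPGroup 2 (zpowers t) := IsPGroup.of_card (n := 1) (by rw [Nat.card_zpowers, ho, pow_one])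
      exact ((hp.inf_normalizer_sylow S).le ⟨mem_zpowers t, ht⟩).2
    have hti : ∀ g : G, g ∉ M → ∀ h ∈ (S : Subgroup G), g⁻¹ * h * g ∈ (S : Subgroup G) → h = 1 := by
      intro g hg h hh hgh
      by_contra h1
      refine hg (mem_normalizer_iff''.2 fun x => ?_)
      have e1 := hCe _ hgh (fun e => h1 (by
        have := congrArg (fun a => g * a * g⁻¹) e
        simpa [mul_assoc] using this))
      have e2 := hCe h hh h1
      show x ∈ (S : Subgroup G) ↔ g⁻¹ * x * g ∈ (S : Subgroup G)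
      conv_lhs => rw [← e2]
      conv_rhs => rw [← e1]
      simp only [mem_centralizer_singleton_iff]
      refine ⟨fun hx => ?_, fun hx => ?_⟩
      · calc g⁻¹ * x * g * (g⁻¹ * h * g) = g⁻¹ * (x * h) * g := by group
          _ = g⁻¹ * (h * x) * g := by rw [hx]
          _ = _ := by group
      · calc x * h = g * (g⁻¹ * x * g * (g⁻¹ * h * g)) * g⁻¹ := by group
          _ = g * (g⁻¹ * h * g * (g⁻¹ * x * g)) * g⁻¹ := by rw [hx]
          _ = _ := by group
    have hMtop : M ≠ ⊤ := fun h => by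
      haveI : (S : Subgroup G).Normal := normalizer_eq_top_iff.1 h
      rcases (inferInstance : (S : Subgroup G).Normal).eq_bot_or_eq_top with h' | h'
      · exact hz1 (mem_bot.1 (h' ▸ hzS))
      · exact hna ⟨⟨fun a b => hScomm a (h' ▸ mem_top a) b (h' ▸ mem_top b)⟩⟩
    have hse : Cfsg.IsStronglyEmbedded M := by
      refine ⟨hMtop, even_iff_two_dvd.2 ?_, fun g hg => Nat.odd_iff.2 ?_⟩
      · rw [← hz]; exact orderOf_dvd_natCard _ (hSM hzS)
      · rw [← Nat.two_dvd_ne_zero]
        intro hd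
        obtain ⟨x, hx⟩ := exists_prime_orderOf_dvd_card' (G := ↥(M ⊓ M.map (MulAut.conj g).toMonoidHom)) 2 hd
        have hxo : orderOf x.1 = 2 := by rw [orderOf_coe, hx]
        obtain ⟨y, hy, hyx⟩ := mem_map.1 x.2.2
        have hyx' : g⁻¹ * x.1 * g = y := by
          rw [← hyx, MulEquiv.coe_toMonoidHom, MulAut.conj_apply]; group
        have h1 := hti g hg x.1 (hinvol _ x.2.1 hxo) (hinvol _ (hyx'.symm ▸ hy) (by
          rw [show g⁻¹ * x.1 * g = MulAut.conj g⁻¹ x.1 by simp, MulEquiv.orderOf_eq]; exact hxo))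
        rw [h1, orderOf_one] at hxo; omega
    have hE : CfsgLib.CIT.Embedded M (S : Subgroup G) :=
      ⟨hse, hSM, le_rfl, hinvol, fun h hh h1 => (hCe h hh h1).le, hti⟩
    have hzu : z ≠ u := fun h => huc (h ▸ P.mem z)
    have hi : 2 ≤ hE.invCount := by
      haveI : Nontrivial {t : G // orderOf t = 2 ∧ t ∈ M} :=
        ⟨⟨⟨z, hz, hSM hzS⟩, ⟨u, hu2, hSM huS⟩, fun e => hzu (congrArg Subtype.val e)⟩⟩
      exact Finite.one_lt_card
    exact CfsgLib.CIT.FrobSystem.classify_two_kernel hE hi S.isPGroup'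
      ⟨z, u, hSM hzS, hSM huS, hz, hu2, hzu, (hzc u huS).eq⟩ (CfsgLib.CIT.FrobSystem.simple_faithful hMtop)
  · -- Sylow four group
    refine Or.inl ?_
    push Not at hex
    have hzu : z ≠ u := fun h => huc (h ▸ P.mem z)
    have hall : ∀ x ∈ (S : Subgroup G), x = 1 ∨ x = z ∨ x = u ∨ x = z * u := fun x hx =>
      or_iff_not_imp_left.2 fun h1 => or_iff_not_imp_left.2 fun h2 => or_iff_not_imp_left.2 fun h3 =>
        hex x hx h1 h2 h3
    have huniq : ∀ e ∈ P.dd z, e * e = 1 → e = 1 ∨ e = z := by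
      intro e he _
      obtain ⟨hez, hec⟩ := P.mem_dd.1 he
      rcases hall e (hCS ▸ mem_centralizer_singleton_iff.2 hez.eq) with h | h | h | h
      · exact Or.inl h
      · exact Or.inr h
      · exact absurd (h ▸ hec) huc
      · have hm := mul_mem (inv_mem (P.mem z)) (h ▸ hec : z * u ∈ P.comp z)
        rw [inv_mul_cancel_left] at hm
        exact absurd hm huc
    have hcardS : Nat.card (S : Subgroup G) = 4 := by
      have h1 : z * u ≠ 1 := fun h => hzu ((eq_inv_of_mul_eq_one_left h).trans (inv_eq_of_mul_eq_one_right (hSsq u huS)))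
      have h2 : z * u ≠ z := fun h => hu1 (mul_eq_left.1 h)
      have h3 : z * u ≠ u := fun h => hz1 (mul_eq_right.1 h)
      have hset : (S : Set G) = (({1, z, u, z * u} : Finset G) : Set G) := by
        ext x
        simp only [Finset.coe_insert, Finset.coe_singleton, Set.mem_insert_iff, Set.mem_singleton_iff]
        refine ⟨hall x, ?_⟩
        rintro (rfl | rfl | rfl | rfl)
        exacts [one_mem _, hzS, huS, mul_mem hzS huS]
      show Nat.card ↥((S : Set G)) = 4
      rw [hset]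
      refine (Nat.card_eq_finsetCard _).trans ?_
      rw [        Finset.card_insert_of_notMem (by simp [hz1.symm, hu1.symm, h1.symm]),
        Finset.card_insert_of_notMem (by simp [hzu, h2.symm]),
        Finset.card_insert_of_notMem (by simp [h3.symm]), Finset.card_singleton]
    have hconj : ∀ v ∈ (S : Subgroup G), v ∉ P.comp z → ∃ g : G, g * v * g⁻¹ = z := by
      intro v hv hvc
      have hv2 := P.outside_sq hz (hzc v hv) hvc
      have hrel : (zpowers z).relIndex (S : Subgroup G) = 2 := by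
        have h := relIndex_mul_index (zpowers_le.2 hzS)
        have h2 := (S : Subgroup G).card_mul_index
        have h3 := (zpowers z).card_mul_index
        rw [hcardS] at h2
        rw [Nat.card_zpowers, hz, ← h, ← h2] at h3
        have h4 : (2 * (zpowers z).relIndex (S : Subgroup G)) * (S : Subgroup G).index =
            4 * (S : Subgroup G).index := by rw [mul_assoc]; exact h3
        have h5 := Nat.eq_of_mul_eq_mul_right
          (Nat.pos_of_ne_zero (index_ne_zero_of_finite (H := (S : Subgroup G)))) h4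
        omega
      rcases CfsgLib.Transfer.thompson_transfer S (zpowers z) hrel hv2 with ⟨N, hN, hNi, -⟩ | ⟨g, hg⟩
      · exfalso
        rcases hN.eq_bot_or_eq_top with h | h
        · rw [h, index_bot] at hNi
          haveI := isCyclic_of_prime_card (α := G) hNi
          letI : CommGroup G := IsCyclic.commGroup
          exact hna ⟨⟨mul_comm⟩⟩
        · rw [h, index_top] at hNi; omega
      · refine ⟨g, (huniq _ (P.mem_dd.2 ⟨(hzc _ (zpowers_le.2 hzS hg)).symm, zpowers_le.2 (P.mem z) hg⟩)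
          (hSsq _ (zpowers_le.2 hzS hg))).resolve_left fun h => ?_⟩
        exact hvc ((by simpa using h : v = 1) ▸ one_mem _)
    refine ⟨?_, P.sep_of_unique huniq (P.conj_of_sylow S huniq hzc hconj)⟩
    have hOb : (oddCore C).map C.subtype = ⊥ := by
      refine eq_bot_iff.2 ?_
      rintro _ ⟨y, hy, rfl⟩
      have h1 : (Nat.card (oddCore C)).Coprime 2 := CfsgLib.Core.coprime_card_pPrimeCore 2 C
      have hy2 : orderOf y ∣ 2 := orderOf_dvd_of_pow_eq_one (Subtype.ext (by
        rw [SubmonoidClass.coe_pow, pow_two]; exact hCsq y.1 y.2))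
      have : y = 1 := orderOf_eq_one_iff.1
        (Nat.eq_one_of_dvd_coprimes h1 (orderOf_dvd_natCard _ hy) hy2)
      rw [this]; exact one_mem _
    have hdi : Nonempty ((S : Subgroup G) ≃* DihedralGroup 2) := by
      refine CfsgLib.TwoGroups.nonempty_mulEquiv_dihedralGroup (a := (⟨z, hzS⟩ : (S : Subgroup G)))
        (b := ⟨u, huS⟩) (by rw [Subgroup.orderOf_mk, hz]) (Subtype.ext (hSsq u huS)) ?_ ?_ hcardS
      · intro h
        obtain ⟨k, hk⟩ := mem_zpowers_iff.1 h
        exact huc ((show z ^ k = u from congrArg Subtype.val hk) ▸ zpow_mem (P.mem z) k)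
      · refine Subtype.ext ?_
        show u * z * u⁻¹ = z⁻¹
        rw [← (hzc u huS).eq, mul_inv_cancel_right, inv_eq_of_mul_eq_one_right (hSsq z hzS)]
    exact Cfsg.Agent.S0508.result S 2 le_rfl hdi z hz hzS (fun s hs => (hzc s hs).symm.eq) ⊥ hOb.symm
      (fun h => absurd rfl h)
      (fun s _ hs => absurd (mem_centralizer_iff.2 fun y hy => by rw [mem_bot.1 hy, one_mul, mul_one]) hs)
      (fun Y hY hYb => absurd (le_bot_iff.1 hY) hYb)

/-- A simple group with a split involution. -/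
theorem split_case [IsSimpleGroup G] (hna : ¬ IsMulCommutative G) {z0 u0 : G} (hz0 : orderOf z0 = 2)
    (hc : Commute z0 u0) (hu0 : u0 ∉ P.comp z0) :
    ((∃ (F : Type) (_ : Field F) (_ : Fintype F), Odd (Fintype.card F) ∧
        Nonempty (G ≃* Matrix.ProjectiveSpecialLinearGroup (Fin 2) F)) ∧ P.Sep) ∨
    (∃ (K : Type) (_ : Field K) (_ : Fintype K), (∃ n : ℕ, 2 ≤ n ∧ Fintype.card K = 2 ^ n) ∧
        Nonempty (G ≃* Matrix.SpecialLinearGroup (Fin 2) K)) ∨
    Cfsg.Lie.IsoSuzuki G := by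
  obtain ⟨S, z, u, hz, hzS, hzc, huS, huc⟩ := P.exists_central_involution hz0 hc hu0
  by_cases hel : ∀ d ∈ P.dd z, d * d = 1
  · exact P.elementary_case hna S hz hzS hzc huS huc hel
  · push Not at hel
    obtain ⟨d, hd, hd2⟩ := hel
    exact Or.inl (P.psl_of_nonelementary hna S hz hzS hzc huS huc hd hd2)

end Pn

end CfsgLib.Partition
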